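import Groth.Agent.QBal44.Basic

/-!
Descent of an equivariant map determined by a point.
-/

set_option autoImplicit false
set_option linter.style.haveILetI false
set_option backward.isDefEq.respectTransparency false
set_option backward.isDefEq.respectTransparency.types false
universe u

open CategoryTheory CategoryTheory.Limits MonoidalCategory CartesianMonoidalCategory MonObj GrpObj AlgebraicGeometry AlgSt
open Groth.Agent.AlgSt88 Groth.Agent.QBal44

noncomputable section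

namespace Groth.Agent.EssDim44

variable {S : Scheme.{u}} {G X : Over S} [GrpObj G] {aX : AlgGrp.Action G X}

/-- Translates of a point over a covering cover a torsor. -/
theorem imgSieve_translate {T B P : Over S} {a : AlgGrp.Action G P} {π : P ⟶ B} {τ : T ⟶ B} {p : T ⟶ P}
    (hc : IsPullback a.act (snd G P) π π) (hτ : IsFpqcSieve (imgSieve τ)) (hp : p ≫ π = τ) :
    IsFpqcSieve (imgSieve ((G ◁ p) ≫ a.act)) := by
  refine (Scheme.fpqcTopology.over S).superset_covering ?_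
    ((Scheme.fpqcTopology.over S).pullback_stable π hτ)
  rintro W t ⟨σ, hσ⟩
  obtain ⟨g, hg, -⟩ := existsUnique_translate hc (σ ≫ p) t (by rw [Category.assoc, hp, hσ])
  exact ⟨lift g σ, (lift_whiskerLeft_assoc _ _ _ _).trans hg⟩

theorem exists_descend_equivariant {TM BM PM TL BL PL : Over S} {aM : AlgGrp.Action G PM}
    {aL : AlgGrp.Action G PL} {πM : PM ⟶ BM} {πL : PL ⟶ BL} {τM : TM ⟶ BM} {τL : TL ⟶ BL} {pM : TM ⟶ PM}
    {pL : TL ⟶ PL} {m : TL ⟶ TM} {v : PL ⟶ PM} {ρ : BL ⟶ BM}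
    (hcM : IsPullback aM.act (snd G PM) πM πM) (hcL : IsPullback aL.act (snd G PL) πL πL)
    (hτ : IsFpqcSieve (imgSieve τM)) (hρ : IsFpqcSieve (imgSieve ρ))
    (hT : IsPullback m τL τM ρ) (hP : IsPullback v πL πM ρ)
    (hpM : pM ≫ πM = τM) (hpL : pL ≫ πL = τL) (hp : pL ≫ v = m ≫ pM)
    (hv : aL.act ≫ v = (G ◁ v) ≫ aM.act)
    (φ : PL ⟶ X) (hφ : aL.act ≫ φ = (G ◁ φ) ≫ aX.act) (xM : TM ⟶ X) (hx : m ≫ xM = pL ≫ φ) :
    ∃ φM : PM ⟶ X, aM.act ≫ φM = (G ◁ φM) ≫ aX.act ∧ v ≫ φM = φ := by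
  let q : G ⊗ TM ⟶ PM := (G ◁ pM) ≫ aM.act
  let ψ : G ⊗ TM ⟶ X := (G ◁ xM) ≫ aX.act
  have hq : IsFpqcSieve (imgSieve q) := imgSieve_translate hcM hτ hpM
  have lq : ∀ {W : Over S} (g : W ⟶ G) (t : W ⟶ TM), lift g t ≫ q = app aM g (t ≫ pM) :=
    fun g t => lift_whiskerLeft_assoc _ _ _ _
  have lψ : ∀ {W : Over S} (g : W ⟶ G) (t : W ⟶ TM), lift g t ≫ ψ = app aX g (t ≫ xM) :=
    fun g t => lift_whiskerLeft_assoc _ _ _ _
  have hcons : ∀ {W : Over S} (y y' : W ⟶ G ⊗ TM), y ≫ q = y' ≫ q → y ≫ ψ = y' ≫ ψ := by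
    intro W y y' h
    obtain ⟨g, t, rfl⟩ : ∃ (g : W ⟶ G) (t : W ⟶ TM), y = lift g t :=
      ⟨y ≫ fst _ _, y ≫ snd _ _, by rw [← comp_lift, lift_fst_snd, Category.comp_id]⟩
    obtain ⟨g', t', rfl⟩ : ∃ (g : W ⟶ G) (t : W ⟶ TM), y' = lift g t :=
      ⟨y' ≫ fst _ _, y' ≫ snd _ _, by rw [← comp_lift, lift_fst_snd, Category.comp_id]⟩
    rw [lq, lq] at h
    have hb : t ≫ τM = t' ≫ τM := by
      have h' := congrArg (· ≫ πM) h
      simp only [app_π hcM, Category.assoc, hpM] at h'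
      exact h'
    let c := t ≫ τM
    refine epi_of_imgSieve (imgSieve_mem_pullback (IsPullback.of_hasPullback ρ c) hρ) ?_
    let b := pullback.fst ρ c
    let w := pullback.snd ρ c
    obtain ⟨s, hs1, hs2⟩ := hT.exists_lift (w ≫ t) b (by rw [Category.assoc]; exact pullback.condition.symm)
    obtain ⟨s', hs1', hs2'⟩ := hT.exists_lift (w ≫ t') b
      (by rw [Category.assoc, ← hb]; exact pullback.condition.symm)
    have e : app aL (w ≫ g) (s ≫ pL) = app aL (w ≫ g') (s' ≫ pL) := by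
      apply hP.hom_ext
      · rw [app_eqv hv, app_eqv hv, Category.assoc, Category.assoc, hp, ← Category.assoc s, ← Category.assoc s',
          hs1, hs1', Category.assoc, Category.assoc, ← comp_app, ← comp_app, h]
      · rw [app_π hcL, app_π hcL, Category.assoc, Category.assoc, hpL, hs2, hs2']
    have e' := congrArg (· ≫ φ) e
    simp only [app_eqv hφ, Category.assoc, ← hx] at e'
    rw [← Category.assoc s, ← Category.assoc s', hs1, hs1', Category.assoc, Category.assoc, ← comp_app,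
      ← comp_app] at e'
    rw [lψ, lψ]
    exact e'
  obtain ⟨φM, hφM⟩ := desc_of_imgSieve hq ψ hcons
  have hM : ∀ {W : Over S} (g : W ⟶ G) (t : W ⟶ TM), app aM g (t ≫ pM) ≫ φM = app aX g (t ≫ xM) := by
    intro W g t
    rw [← lq, Category.assoc, hφM, lψ]
  refine ⟨φM, ?_, ?_⟩
  · refine epi_of_imgSieve (imgSieve_mem_pullback (isPullback_whiskerLeft q).flip hq)
      (AlgGrp.Action.hom_ext_lift₂ fun W g y => ?_)
    obtain ⟨g', t, rfl⟩ : ∃ (g : W ⟶ G) (t : W ⟶ TM), y = lift g t :=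
      ⟨y ≫ fst _ _, y ≫ snd _ _, by rw [← comp_lift, lift_fst_snd, Category.comp_id]⟩
    simp only [lift_whiskerLeft_assoc, lq, hM]
    rw [← Category.assoc (lift g _)]
    change (lift g (lift g' _ ≫ aM.act) ≫ aM.act) ≫ φM = lift g (lift g' _ ≫ aX.act) ≫ aX.act
    rw [← aM.lift_mul_act, ← aX.lift_mul_act]
    exact hM _ _
  · refine epi_of_imgSieve (imgSieve_translate hcL (imgSieve_mem_pullback hT hτ) hpL)
      (AlgGrp.Action.hom_ext_lift₂ fun W g s => ?_)
    simp only [Category.assoc, lift_whiskerLeft_assoc]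
    change lift g (s ≫ pL) ≫ aL.act ≫ v ≫ φM = lift g (s ≫ pL) ≫ aL.act ≫ φ
    rw [← Category.assoc (lift g _), ← Category.assoc (lift g _)]
    change app aL g (s ≫ pL) ≫ v ≫ φM = app aL g (s ≫ pL) ≫ φ
    rw [← Category.assoc (app aL g _) v, app_eqv hv, app_eqv hφ, Category.assoc s, Category.assoc s, hp, ← hx,
      ← Category.assoc s, hM, Category.assoc s]

end Groth.Agent.EssDim44
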