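import Groth.Agent.EssDim44.FinPts
import Groth.Agent.EssDimR99.Point
import Groth.Agent.EssDim99.Basic
import Groth.Agent.TopDim50.Basic
import Groth.Agent.E4O.FibreDim

/-!
Finite points and fields of definition of points.
-/

set_option autoImplicit false
set_option linter.style.haveILetI false
set_option backward.isDefEq.respectTransparency false
set_option backward.isDefEq.respectTransparency.types false
universe u

open CategoryTheory CategoryTheory.Limits AlgebraicGeometry Cardinal

noncomputable section

namespace Groth.Agent.EssDim44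

variable {k : Type u} [Field k]

theorem exists_finite_point (K : Type u) [Field K] [Algebra k K] {P : Over (Spec (CommRingCat.of k))}
    (π : P ⟶ SGA7.pt (K := k) K) [LocallyOfFiniteType π.left] [Surjective π.left] :
    ∃ (K₁ : Type u) (_ : Field K₁) (_ : Algebra K K₁) (_ : Module.Finite K K₁) (p : fpt₀ (k := k) K K₁ ⟶ P),
      p ≫ π = fpt₀π K K₁ := by
  let f : P.left ⟶ Spec (CommRingCat.of K) := π.left
  haveI : LocallyOfFiniteType f := ‹_›
  haveI := LocallyOfFiniteType.jacobsonSpace f
  obtain ⟨x₀, -⟩ := Scheme.Hom.surjective π.left (IsLocalRing.closedPoint K)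
  obtain ⟨x, -, hx⟩ := nonempty_inter_closedPoints (X := P.left) (Z := Set.univ) ⟨x₀, trivial⟩
    isOpen_univ.isLocallyClosed
  letI : Algebra K (P.left.residueField x) :=
    ((Spec.preimage (P.left.fromSpecResidueField x ≫ f)).hom).toAlgebra
  have hl : P.left.fromSpecResidueField x ≫ f =
      Spec.map (CommRingCat.ofHom (algebraMap K (P.left.residueField x))) := (Spec.map_preimage _).symm
  have hfin : Module.Finite K (P.left.residueField x) := by
    haveI : IsFinite (P.left.fromSpecResidueField x ≫ f) := by
      rw [mem_closedPoints_iff, isClosed_singleton_iff_isClosedImmersion] at hx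
      rw [isFinite_iff_locallyOfFiniteType_of_jacobsonSpace]
      infer_instance
    have h : IsFinite (Spec.map (CommRingCat.ofHom (algebraMap K (P.left.residueField x)))) := by
      rw [← hl]; infer_instance
    exact RingHom.finite_algebraMap.1 ((IsFinite.SpecMap_iff _).1 h)
  refine ⟨P.left.residueField x, inferInstance, inferInstance, hfin,
    Over.homMk (P.left.fromSpecResidueField x) ?_, Over.OverMorphism.ext hl⟩
  change _ ≫ P.hom = Spec.map (CommRingCat.ofHom (algebraMap K (P.left.residueField x))) ≫ _
  rw [← hl, ← Over.w π, Category.assoc]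

theorem toENat_trdeg_residueField_le {X : Scheme.{u}} (g : X ⟶ Spec (CommRingCat.of k)) [LocallyOfFiniteType g]
    (x : X) :
    ((toENat (Dual3.resTrdeg g x) : ℕ∞) : WithBot ℕ∞) ≤ topologicalKrullDim X := by
  rw [SpPts86.resTrdeg_eq_fdeg, map_natCast]
  refine le_trans (le_of_eq (by norm_cast))
    ((E4O.fdeg_le_fibreDimAt (f := g) specializes_rfl rfl).trans ((TopDim50.localDim_le_dim _).trans ?_))
  exact (g.fiberι (g x)).isEmbedding.isInducing.topologicalKrullDim_le

/-- A point over a field comes from a small algebraically closed subfield. -/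
theorem exists_small_field (K N : Type u) [Field K] [Algebra k K] [Field N] [Algebra k N] [Algebra K N]
    [IsScalarTower k K N] {X : Over (Spec (CommRingCat.of k))} [LocallyOfFiniteType X.hom]
    (x : SGA7.pt (K := k) N ⟶ X) :
    ∃ (A : IntermediateField K N) (xA : SGA7.pt (K := k) A ⟶ X),
      EssDim.resPt (A.val.restrictScalars k) ≫ xA = x ∧ (∀ z : N, IsAlgebraic K z → z ∈ A) ∧
      ((toENat (Algebra.trdeg k A) : ℕ∞) : WithBot ℕ∞) ≤
        (toENat (Algebra.trdeg k K) : ℕ∞) + topologicalKrullDim X.left := by
  obtain ⟨⟨y, j⟩, hxy⟩ := (Scheme.SpecToEquivOfField N X.left).symm.surjective x.left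
  change Spec.map j ≫ X.left.fromSpecResidueField y = x.left at hxy
  letI : Algebra k (X.left.residueField y) :=
    EssDimR99.algOf (A := X.left.residueField y) (X.left.fromSpecResidueField y ≫ X.hom)
  let ja : X.left.residueField y →ₐ[k] N :=
    { j.hom with
      commutes' := fun c => by
        change (Spec.preimage (X.left.fromSpecResidueField y ≫ X.hom) ≫ j).hom c =
          (CommRingCat.ofHom (algebraMap k N)).hom c
        congr 2
        apply Spec.map_injective
        rw [Spec.map_comp, Spec.map_preimage, reassoc_of% hxy]
        exact Over.w x }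
  let F : IntermediateField k N := ja.fieldRange
  let E : IntermediateField K N := EssDim99.comp' (K := K) F
  let A : IntermediateField K N := (algebraicClosure E N).restrictScalars K
  have hEA : E ≤ A := fun z hz => mem_algebraicClosure_iff'.2
    ((isAlgebraic_algebraMap (R := E) (A := N) (⟨z, hz⟩ : E)).isIntegral)
  have hFA : ∀ z, ja z ∈ A := fun z => hEA (IntermediateField.subset_adjoin K _ ⟨z, rfl⟩)
  let jA : X.left.residueField y →ₐ[k] A :=
    { (ja : X.left.residueField y →+* N).codRestrict A hFA with
      commutes' := fun c => Subtype.ext (ja.commutes c) }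
  have hja : (A.val : A →+* N).comp (jA : X.left.residueField y →+* A) = j.hom := RingHom.ext fun z => rfl
  refine ⟨A, Over.homMk (Spec.map (CommRingCat.ofHom (jA : X.left.residueField y →+* A)) ≫
      X.left.fromSpecResidueField y) ?_, Over.OverMorphism.ext ?_, ?_, ?_⟩
  · change (_ ≫ _) ≫ X.hom = Spec.map _
    rw [Category.assoc, show X.left.fromSpecResidueField y ≫ X.hom =
      Spec.map (CommRingCat.ofHom (algebraMap k (X.left.residueField y))) from (Spec.map_preimage _).symm,
      ← Spec.map_comp, ← CommRingCat.ofHom_comp, jA.comp_algebraMap]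
  · change Spec.map _ ≫ Spec.map _ ≫ _ = x.left
    rw [← hxy, ← Category.assoc, ← Spec.map_comp, ← CommRingCat.ofHom_comp]
    congr 2
  · exact fun z hz => mem_algebraicClosure_iff'.2 (hz.tower_top (L := E)).isIntegral
  · have h1 : Algebra.trdeg K E ≤ Algebra.trdeg k (X.left.residueField y) :=
      (EssDim99.trdeg_le F).trans_eq (AlgEquiv.ofInjectiveField ja).trdeg_eq.symm
    have h2 : Algebra.trdeg K A = Algebra.trdeg K E := by
      haveI : Algebra.IsAlgebraic E (algebraicClosure E N) := inferInstance
      have h := trdeg_add_eq K E (A := algebraicClosure E N)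
      rw [trdeg_eq_zero (R := E), add_zero] at h
      exact h.symm
    have h3 : Algebra.trdeg k A ≤ Algebra.trdeg k K + Algebra.trdeg k (X.left.residueField y) := by
      rw [← trdeg_add_eq k K (A := A), h2]
      exact add_le_add le_rfl h1
    refine (WithBot.coe_le_coe.2 (OrderHomClass.mono toENat h3)).trans ?_
    rw [map_add, WithBot.coe_add, EssDimR99.trdeg_residueField X.hom y]
    exact add_le_add le_rfl (toENat_trdeg_residueField_le X.hom y)

end Groth.Agent.EssDim44
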