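import Groth.Agent.EssDim44.FinDescent
import Groth.Agent.EssDim44.Points
import Groth.Agent.EssDim44.Descend
import Groth.Agent.AlgSt88.QuotTorsor
import Groth.Agent.SpPts86.LocPMore
import Mathlib.FieldTheory.IsAlgClosed.AlgebraicClosure

/-!
An equivariant map from a torsor over a field descends to a small subfield.
-/

set_option autoImplicit false
set_option maxHeartbeats 1000000
set_option linter.style.haveILetI false
set_option backward.isDefEq.respectTransparency false
set_option backward.isDefEq.respectTransparency.types false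
universe u

open CategoryTheory CategoryTheory.Limits MonoidalCategory CartesianMonoidalCategory MonObj GrpObj AlgebraicGeometry AlgSt
open Groth.Agent.AlgSt88 Groth.Agent.QBal44 Cardinal
open scoped TensorProduct

noncomputable section

namespace Groth.Agent.EssDim44

variable {k : Type u} [Field k]

theorem quasiCompact_specMap {A B : CommRingCat.{u}} (φ : A ⟶ B) : QuasiCompact (Spec.map φ) := inferInstance

theorem discrete_fpt (K K₁ R : Type u) [Field K] [Algebra k K] [Field K₁] [Algebra K K₁] [Module.Finite K K₁]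
    [Field R] [Algebra k R] [Algebra K R] [IsScalarTower k K R] :
    DiscreteTopology ↥(fpt (k := k) K K₁ R).left :=
  haveI := IsArtinianRing.of_finite R (R ⊗[K] K₁)
  inferInstanceAs (DiscreteTopology (PrimeSpectrum (R ⊗[K] K₁)))

theorem isAffine_fpt (K K₁ R : Type u) [Field K] [Algebra k K] [Field K₁] [Algebra K K₁]
    [Field R] [Algebra k R] [Algebra K R] [IsScalarTower k K R] : IsAffine (fpt (k := k) K K₁ R).left :=
  inferInstanceAs (IsAffine (Spec _))

theorem imgSieve_resPt_mem {K L : Type u} [Field K] [Algebra k K] [Field L] [Algebra k L] (f : K →ₐ[k] L) :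
    IsFpqcSieve (imgSieve (EssDim.resPt f)) := by
  refine imgSieve_mem le_rfl ?_
  haveI : Flat (EssDim.resPt f).left := by
    rw [EssDim.resPt_left, HasRingHomProperty.Spec_iff (P := @Flat)]
    algebraize [(f : K →+* L)]
    exact inferInstanceAs (Module.Flat K L)
  haveI : Surjective (EssDim.resPt f).left :=
    ⟨fun y => ⟨IsLocalRing.closedPoint L, Subsingleton.elim (α := PrimeSpectrum K) _ _⟩⟩
  haveI : QuasiCompact (EssDim.resPt f).left := by
    rw [EssDim.resPt_left]
    exact quasiCompact_specMap _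
  exact ⟨_, Scheme.Hom.singleton_mem_fpqcPrecoverage (EssDim.resPt f).left, by
    rintro S' g ⟨⟩; exact ⟨𝟙 _, Category.id_comp _⟩⟩

theorem imgSieve_fptπ_mem (K K₁ R : Type u) [Field K] [Algebra k K] [Field K₁] [Algebra K K₁] [Field R]
    [Algebra k R] [Algebra K R] [IsScalarTower k K R] : IsFpqcSieve (imgSieve (fptπ (k := k) K K₁ R)) := by
  refine imgSieve_mem le_rfl ?_
  let f : Spec (CommRingCat.of (R ⊗[K] K₁)) ⟶ Spec (CommRingCat.of R) :=
    Spec.map (CommRingCat.ofHom (algebraMap R (R ⊗[K] K₁)))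
  haveI : Flat f := by
    rw [HasRingHomProperty.Spec_iff (P := @Flat)]
    exact RingHom.flat_algebraMap_iff.2 inferInstance
  haveI : Surjective f :=
    ⟨fun y => ⟨Classical.arbitrary (PrimeSpectrum (R ⊗[K] K₁)), Subsingleton.elim (α := PrimeSpectrum R) _ _⟩⟩
  exact ⟨_, Scheme.Hom.singleton_mem_fpqcPrecoverage f, by
    rintro S' g ⟨⟩; exact ⟨𝟙 _, Category.id_comp _⟩⟩

theorem appTop_fptMap {K K₁ R R' : Type u} [Field K] [Algebra k K] [Field K₁] [Algebra K K₁] [Field R]
    [Algebra k R] [Algebra K R] [IsScalarTower k K R] [Field R'] [Algebra k R'] [Algebra K R']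
    [IsScalarTower k K R'] (f : R →ₐ[K] R') (s : Γ(Spec (CommRingCat.of (R ⊗[K] K₁)), ⊤)) :
    (Scheme.ΓSpecIso (CommRingCat.of (R' ⊗[K] K₁))).hom.hom ((fptMap (k := k) K K₁ f).left.appTop.hom s) =
      f.toLinearMap.rTensor K₁ ((Scheme.ΓSpecIso (CommRingCat.of (R ⊗[K] K₁))).hom.hom s) := by
  rw [fptMap_left]
  refine (congr($(Scheme.ΓSpecIso_naturality _) s)).trans ?_
  rw [ConcreteCategory.comp_apply]
  generalize (Scheme.ΓSpecIso (CommRingCat.of (R ⊗[K] K₁))).hom.hom s = c
  change Algebra.TensorProduct.map f (AlgHom.id K K₁) c = _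
  induction (c : R ⊗[K] K₁) using TensorProduct.induction_on with
  | zero => simp
  | tmul a b => simp
  | add x y hx hy => simp [map_add, hx, hy]

variable {G X : Over (Spec (CommRingCat.of k))} [GrpObj G] {aX : AlgGrp.Action G X}

theorem exists_descend_map [LocallyOfFiniteType G.hom] [LocallyOfFiniteType X.hom] {K L : Type u} [Field K]
    [Algebra k K] [Field L] [Algebra k L] [Algebra K L] [IsScalarTower k K L]
    {P₀ P : Over (Spec (CommRingCat.of k))}
    {a₀ : AlgGrp.Action G P₀} {π₀ : P₀ ⟶ SGA7.pt (K := k) K} (hc₀ : IsPullback a₀.act (snd G P₀) π₀ π₀)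
    (hloc₀ : NonAbH1.IsLocallyTrivialFor Scheme.fppfPrecoverage (Over.mk π₀.left))
    {a : AlgGrp.Action G P} {π : P ⟶ SGA7.pt (K := k) L} (hc : IsPullback a.act (snd G P) π π)
    {top : P ⟶ P₀} (hP : IsPullback top π π₀ (toBaseK K L)) (htop : a.act ≫ top = (G ◁ top) ≫ a₀.act)
    (φ : P ⟶ X) (hφ : a.act ≫ φ = (G ◁ φ) ≫ aX.act) :
    ∃ M : IntermediateField K L,
      ((toENat (Algebra.trdeg k M) : ℕ∞) : WithBot ℕ∞) ≤
        (toENat (Algebra.trdeg k K) : ℕ∞) + topologicalKrullDim X.left ∧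
      ∀ (PM : Over (Spec (CommRingCat.of k))) (aM : AlgGrp.Action G PM) (πM : PM ⟶ SGA7.pt (K := k) M)
        (topM : PM ⟶ P₀) (v : P ⟶ PM), IsPullback aM.act (snd G PM) πM πM →
        IsPullback topM πM π₀ (toBaseK K M) → IsPullback v π πM (EssDim.resPt (M.val.restrictScalars k)) →
        a.act ≫ v = (G ◁ v) ≫ aM.act → v ≫ topM = top →
        ∃ φM : PM ⟶ X, aM.act ≫ φM = (G ◁ φM) ≫ aX.act ∧ v ≫ φM = φ := by
  have hK := Scheme.fppfPrecoverage_le_fpqcPrecoverage.{u}
  have hloc' : NonAbH1.IsLocallyTrivialFor Scheme.fpqcPrecoverage (Over.mk π₀.left) :=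
    let ⟨R, hR, h⟩ := hloc₀; ⟨R, hK _ hR, h⟩
  haveI : Surjective π₀.left := Sga84.surjective_of_isLocallyTrivialFor (X := Over.mk π₀.left) hloc'
  haveI : LocallyOfFinitePresentation π₀.left := by
    have : MorphismProperty.DescendsAlong @LocallyOfFinitePresentation Unr55.fpqc.{u} := by infer_instance
    refine of_selfPullback _ @LocallyOfFinitePresentation ?_ hloc'
    have h : IsPullback a₀.act.left (snd G P₀).left π₀.left π₀.left := hc₀.map (Over.forget _)
    have h0 : LocallyOfFinitePresentation (snd G P₀).left :=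
      MorphismProperty.pullback_snd (P := @LocallyOfFinitePresentation) _ _ (SpPts86.lfp_of_lft G.hom)
    rw [← h.isoPullback_hom_snd] at h0
    exact (MorphismProperty.cancel_left_of_respectsIso @LocallyOfFinitePresentation _ _).1 h0
  obtain ⟨K₁, _, _, _, p, hp⟩ := exists_finite_point K π₀
  -- the point over `L`
  let pL : fpt (k := k) K K₁ L ⟶ P := hP.lift (fptPr K K₁ L ≫ p) (fptπ K K₁ L)
    (by rw [Category.assoc, hp]; exact (isPullback_fptPr K K₁ L).w)
  have hpL₁ : pL ≫ top = fptPr K K₁ L ≫ p := hP.lift_fst _ _ _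
  have hpL₂ : pL ≫ π = fptπ K K₁ L := hP.lift_snd _ _ _
  let N := AlgebraicClosure L
  haveI : Algebra.IsAlgebraic K K₁ := Algebra.IsAlgebraic.of_finite K K₁
  let τ : K₁ →ₐ[K] N := IsAlgClosed.lift
  let ιL : L →ₐ[K] N := IsScalarTower.toAlgHom K L N
  let sN : SGA7.pt (K := k) N ⟶ fpt₀ (k := k) K K₁ :=
    Over.homMk (Spec.map (CommRingCat.ofHom (τ : K₁ →+* N))) (by
      change Spec.map _ ≫ Spec.map _ ≫ Spec.map _ = Spec.map _
      rw [← Spec.map_comp, ← Spec.map_comp, ← CommRingCat.ofHom_comp, ← CommRingCat.ofHom_comp]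
      congr 2
      exact RingHom.ext fun c => by simp [← IsScalarTower.algebraMap_apply])
  have hsN : sN ≫ fpt₀π K K₁ = 𝟙 _ ≫ toBaseK K N := by
    apply Over.OverMorphism.ext
    change Spec.map _ ≫ Spec.map _ = 𝟙 _ ≫ Spec.map _
    rw [Category.id_comp, ← Spec.map_comp]
    congr 1
    exact CommRingCat.hom_ext (RingHom.ext fun c => τ.commutes c)
  let σN := (isPullback_fptPr K K₁ N).lift sN (𝟙 _) hsN
  obtain ⟨A, xA, hxA, halg, hbound⟩ := exists_small_field K N (σN ≫ fptMap K K₁ ιL ≫ pL ≫ φ)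
  let M : IntermediateField K L := A.comap ιL
  refine ⟨M, le_trans (WithBot.coe_le_coe.2 (OrderHomClass.mono toENat ?_)) hbound, ?_⟩
  · exact trdeg_le_of_injective (((ιL.comp M.val).codRestrict A.toSubalgebra fun m => m.2).restrictScalars k)
      fun x y h => Subtype.ext (ιL.injective (congrArg Subtype.val h))
  intro PM aM πM topM v hcM hM hv heqv hvt
  -- the point over `A`
  let ιA : A →ₐ[K] N := A.val
  let τA : K₁ →ₐ[K] A :=
    τ.codRestrict A.toSubalgebra fun z => halg _ ((Algebra.IsAlgebraic.isAlgebraic (R := K) z).algHom τ)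
  let sA : SGA7.pt (K := k) A ⟶ fpt₀ (k := k) K K₁ :=
    Over.homMk (Spec.map (CommRingCat.ofHom (τA : K₁ →+* A))) (by
      change Spec.map _ ≫ Spec.map _ ≫ Spec.map _ = Spec.map _
      rw [← Spec.map_comp, ← Spec.map_comp, ← CommRingCat.ofHom_comp, ← CommRingCat.ofHom_comp]
      congr 2
      exact RingHom.ext fun c => by simp [← IsScalarTower.algebraMap_apply])
  have hsA : sA ≫ fpt₀π K K₁ = 𝟙 _ ≫ toBaseK K A := by
    apply Over.OverMorphism.ext
    change Spec.map _ ≫ Spec.map _ = 𝟙 _ ≫ Spec.map _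
    rw [Category.id_comp, ← Spec.map_comp]
    congr 1
    exact CommRingCat.hom_ext (RingHom.ext fun c => τA.commutes c)
  have hres : EssDim.resPt (ιA.restrictScalars k) ≫ sA = sN := by
    apply Over.OverMorphism.ext
    change Spec.map _ ≫ Spec.map _ = Spec.map _
    rw [← Spec.map_comp]
    rfl
  obtain ⟨g, hg, -⟩ := existsUnique_translate hc₀ ((fptπ K K₁ A ≫ sA) ≫ p) (fptPr K K₁ A ≫ p) (by
    rw [Category.assoc, hp, Category.assoc, hsA, Category.id_comp, Category.assoc, hp]
    exact (isPullback_fptPr K K₁ A).w.symm)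
  let mA := fptMap (k := k) K K₁ ιA
  let mL := fptMap (k := k) K K₁ ιL
  have hσ₁ : σN ≫ fptPr K K₁ N = sN := (isPullback_fptPr K K₁ N).lift_fst _ _ _
  have hσ₂ : σN ≫ fptπ K K₁ N = 𝟙 _ := (isPullback_fptPr K K₁ N).lift_snd _ _ _
  have hkey : app a (mA ≫ g) (fptπ K K₁ N ≫ σN ≫ mL ≫ pL) = mL ≫ pL := by
    apply hP.hom_ext
    · have e1 : (fptπ K K₁ N ≫ σN ≫ mL ≫ pL) ≫ top = mA ≫ (fptπ K K₁ A ≫ sA) ≫ p := by
        simp only [Category.assoc]
        rw [hpL₁, reassoc_of% (fptMap_pr (k := k) K K₁ ιL), reassoc_of% hσ₁, ← hres, Category.assoc,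
          ← reassoc_of% (fptMap_π (k := k) K K₁ ιA)]
      rw [app_eqv htop, e1, ← comp_app, hg, Category.assoc, hpL₁, reassoc_of% (fptMap_pr (k := k) K K₁ ιA),
        reassoc_of% (fptMap_pr (k := k) K K₁ ιL)]
    · rw [app_π hc]
      simp only [Category.assoc, hpL₂]
      rw [fptMap_π, reassoc_of% hσ₂]
  have hN : mL ≫ pL ≫ φ = mA ≫ app aX g (fptπ K K₁ A ≫ xA) := by
    rw [← Category.assoc, ← hkey, app_eqv hφ, comp_app]
    congr 1
    simp only [Category.assoc]
    rw [← hxA, ← reassoc_of% (fptMap_π (k := k) K K₁ ιA)]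
  -- descent of the point
  let j : M →ₐ[K] L := M.val
  haveI := discrete_fpt (k := k) K K₁ L
  haveI := discrete_fpt (k := k) K K₁ A
  haveI := isAffine_fpt (k := k) K K₁ L
  haveI := isAffine_fpt (k := k) K K₁ A
  haveI := isAffine_fpt (k := k) K K₁ N
  have hsq : IsPullback (fptMap (k := k) K K₁ j).left (fptπ K K₁ L).left (fptπ K K₁ M).left
      (EssDim.resPt (j.restrictScalars k)).left := (isPullback_fptMap K K₁ j).map (Over.forget _)
  have hρ := imgSieve_resPt_mem (j.restrictScalars k)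
  haveI : Flat (fptMap (k := k) K K₁ j).left := MorphismProperty.of_isPullback hsq.flip (by
    rw [EssDim.resPt_left, HasRingHomProperty.Spec_iff (P := @Flat)]
    exact RingHom.flat_algebraMap_iff.2 (inferInstanceAs (Module.Flat M L)))
  haveI : Surjective (fptMap (k := k) K K₁ j).left := MorphismProperty.of_isPullback hsq.flip
    ⟨fun y => ⟨IsLocalRing.closedPoint L, Subsingleton.elim (α := PrimeSpectrum M) _ _⟩⟩
  haveI : QuasiCompact (fptMap (k := k) K K₁ j).left := MorphismProperty.of_isPullback hsq.flip (by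
    rw [EssDim.resPt_left]; exact quasiCompact_specMap _)
  obtain ⟨y, hy⟩ := exists_fin_descent (fptMap (k := k) K K₁ j).left mL.left mA.left (pL ≫ φ).left
    (app aX g (fptπ K K₁ A ≫ xA)).left (congrArg CommaMorphism.left hN) (fun u w e => by
    have e' := congrArg (Scheme.ΓSpecIso (CommRingCat.of (N ⊗[K] K₁))).hom.hom e
    rw [appTop_fptMap, appTop_fptMap] at e'
    obtain ⟨c, hc'⟩ := exists_tensor_inter j.toLinearMap ιL.toLinearMap ιA.toLinearMap
      (fun x y hxy => ⟨⟨x, by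
        change ιL x ∈ A
        rw [show ιL x = ιA y from hxy]
        exact y.2⟩, rfl⟩) _ _ e'
    refine ⟨(Scheme.ΓSpecIso (CommRingCat.of (M ⊗[K] K₁))).inv.hom c, ?_⟩
    apply (ConcreteCategory.bijective_of_isIso (Scheme.ΓSpecIso (CommRingCat.of (L ⊗[K] K₁))).hom).1
    refine (appTop_fptMap j _).trans ?_
    rw [show (Scheme.ΓSpecIso (CommRingCat.of (M ⊗[K] K₁))).hom.hom
      ((Scheme.ΓSpecIso (CommRingCat.of (M ⊗[K] K₁))).inv.hom c) = c from
        congr($((Scheme.ΓSpecIso (CommRingCat.of (M ⊗[K] K₁))).inv_hom_id) c), hc'])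
  let xM : fpt (k := k) K K₁ M ⟶ X := Over.homMk y (by
    haveI : EffectiveEpi (fptMap (k := k) K K₁ j).left := inferInstance
    rw [← cancel_epi (fptMap (k := k) K K₁ j).left, reassoc_of% hy, Over.w, Over.w])
  have hxM : fptMap K K₁ j ≫ xM = pL ≫ φ := Over.OverMorphism.ext hy
  let pM : fpt (k := k) K K₁ M ⟶ PM := hM.lift (fptPr K K₁ M ≫ p) (fptπ K K₁ M)
    (by rw [Category.assoc, hp]; exact (isPullback_fptPr K K₁ M).w)
  refine exists_descend_equivariant (pM := pM) (pL := pL) (τM := fptπ K K₁ M) hcM hc (imgSieve_fptπ_mem K K₁ M)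
    hρ (isPullback_fptMap K K₁ j) hv (hM.lift_snd _ _ _) hpL₂ ?_ heqv φ hφ xM hxM
  apply hM.hom_ext
  · rw [Category.assoc, hvt, hpL₁, Category.assoc, hM.lift_fst, reassoc_of% (fptMap_pr (k := k) K K₁ j)]
  · rw [Category.assoc, hv.w, reassoc_of% hpL₂, Category.assoc, hM.lift_snd, fptMap_π]

end Groth.Agent.EssDim44
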