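import Mathlib.AlgebraicGeometry.AffineScheme
import Mathlib.AlgebraicGeometry.Morphisms.Flat
import Mathlib.AlgebraicGeometry.Sites.Fpqc
import Mathlib.RingTheory.Spectrum.Prime.Topology

/-!
Descent of morphisms out of finite schemes along an intersection of coefficient rings.
-/

set_option autoImplicit false
set_option backward.isDefEq.respectTransparency false
set_option backward.isDefEq.respectTransparency.types false
universe u

open CategoryTheory CategoryTheory.Limits AlgebraicGeometry TopologicalSpace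

noncomputable section

namespace Groth.Agent.EssDim44

/-- Idempotents with the same non-vanishing locus are equal. -/
theorem idem_ext {Y : Scheme.{u}} [IsAffine Y] {e e' : Γ(Y, ⊤)} (he : IsIdempotentElem e)
    (he' : IsIdempotentElem e') (h : Y.basicOpen e = Y.basicOpen e') : e = e' := by
  have key : ∀ {a b : Γ(Y, ⊤)}, IsIdempotentElem a → IsIdempotentElem b → Y.basicOpen a ≤ Y.basicOpen b →
      a * (1 - b) = 0 := by
    intro a b ha hb' hab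
    have hi : IsIdempotentElem (a * (1 - b)) := ha.mul hb'.one_sub
    refine hi.eq_zero_of_isNilpotent ?_
    have hb : Y.basicOpen (a * (1 - b)) = ⊥ := by
      rw [eq_bot_iff, Scheme.basicOpen_mul]
      rintro x ⟨h1, h2⟩
      have h3 : x ∈ Y.basicOpen (b * (1 - b)) := by rw [Scheme.basicOpen_mul]; exact ⟨hab h1, h2⟩
      rw [mul_sub, mul_one, hb'.eq, sub_self, Scheme.basicOpen_zero] at h3
      exact h3
    rw [← PrimeSpectrum.basicOpen_eq_bot_iff, eq_bot_iff]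
    intro y hy
    have hy' : Y.isoSpec.inv y ∈ Y.basicOpen (a * (1 - b)) := by
      rw [← Scheme.toSpecΓ_preimage_basicOpen]
      change Y.isoSpec.hom (Y.isoSpec.inv y) ∈ PrimeSpectrum.basicOpen _
      rw [← Scheme.Hom.comp_apply, Iso.inv_hom_id]
      exact hy
    rw [hb] at hy'
    exact hy'.elim
  have h1 := key he he' h.le
  have h2 := key he' he h.ge
  rw [mul_sub, mul_one, sub_eq_zero] at h1 h2
  rw [h1, mul_comm, ← h2]

/-- Closed open subsets of an affine scheme are cut out by idempotents. -/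
theorem exists_idem {Y : Scheme.{u}} [IsAffine Y] (V : Y.Opens) (hV : IsClosed (V : Set Y)) :
    ∃ e : Γ(Y, ⊤), IsIdempotentElem e ∧ Y.basicOpen e = V := by
  let f := Y.isoSpec.hom
  have hcl : IsClopen (Y.isoSpec.inv ⁻¹' (V : Set Y)) :=
    ⟨hV.preimage Y.isoSpec.inv.continuous, V.isOpen.preimage Y.isoSpec.inv.continuous⟩
  obtain ⟨e, he, h⟩ := PrimeSpectrum.exists_idempotent_basicOpen_eq_of_isClopen hcl
  refine ⟨e, he, ?_⟩
  rw [← Scheme.toSpecΓ_preimage_basicOpen]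
  ext x
  change Y.isoSpec.hom x ∈ ((PrimeSpectrum.basicOpen e : Opens _) : Set (PrimeSpectrum Γ(Y, ⊤))) ↔ x ∈ V
  rw [← h]
  change Y.isoSpec.inv (Y.isoSpec.hom x) ∈ V ↔ _
  rw [← Scheme.Hom.comp_apply, Iso.hom_inv_id]
  rfl

/-- Sections over a closed open subset are the multiples of its idempotent. -/
theorem exists_rep {Y : Scheme.{u}} [IsAffine Y] {e : Γ(Y, ⊤)} (he : IsIdempotentElem e) {V : Y.Opens}
    (hV : Y.basicOpen e = V) (t : Γ(Y, V)) :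
    ∃ s : Γ(Y, ⊤), e * s = s ∧ (Y.presheaf.map (homOfLE le_top).op).hom s = t := by
  subst hV
  haveI := (isAffineOpen_top Y).isLocalization_basicOpen e
  let ρ := algebraMap Γ(Y, ⊤) Γ(Y, Y.basicOpen e)
  have hu : ρ e = 1 :=
    (IsLocalization.Away.algebraMap_isUnit (S := Γ(Y, Y.basicOpen e)) e).mul_eq_left.mp
      (by rw [← map_mul, he.eq])
  obtain ⟨⟨s, ⟨_, n, rfl⟩⟩, hs⟩ := IsLocalization.surj (Submonoid.powers e) t
  change t * ρ (e ^ n) = ρ s at hs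
  rw [map_pow, hu, one_pow, mul_one] at hs
  refine ⟨e * s, by rw [← mul_assoc, he.eq], ?_⟩
  change ρ (e * s) = t
  rw [map_mul, hu, one_mul, hs]

/-- Multiples of an idempotent are determined by their restriction to its locus. -/
theorem rep_ext {Y : Scheme.{u}} [IsAffine Y] {e : Γ(Y, ⊤)} (he : IsIdempotentElem e) {V : Y.Opens}
    (hV : Y.basicOpen e = V) {s s' : Γ(Y, ⊤)} (hs : e * s = s) (hs' : e * s' = s')
    (h : (Y.presheaf.map (homOfLE (le_top : V ≤ ⊤)).op).hom s = (Y.presheaf.map (homOfLE le_top).op).hom s') :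
    s = s' := by
  subst hV
  haveI := (isAffineOpen_top Y).isLocalization_basicOpen e
  obtain ⟨⟨_, n, rfl⟩, hn⟩ := (IsLocalization.eq_iff_exists (Submonoid.powers e) Γ(Y, Y.basicOpen e)).1 h
  change e ^ n * s = e ^ n * s' at hn
  cases n with
  | zero => simpa using hn
  | succ n => rwa [he.pow_succ_eq, hs, hs'] at hn

theorem appLE_congr_idx {Z X : Scheme.{u}} {g g' : Z ⟶ X} {U U' : X.Opens} {W W' : Z.Opens} (hU : U' = U)
    (hW : W' = W) {h : W ≤ g ⁻¹ᵁ U} {h' : W ≤ g' ⁻¹ᵁ U} (e : g.appLE U W h = g'.appLE U W h')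
    (k : W' ≤ g ⁻¹ᵁ U') (k' : W' ≤ g' ⁻¹ᵁ U') : g.appLE U' W' k = g'.appLE U' W' k' := by
  subst hU hW
  exact e

/-- Morphisms agree on an open set mapping into an affine open as soon as they agree on functions. -/
theorem hom_ext_on {Z X : Scheme.{u}} {g g' : Z ⟶ X} {U : X.Opens} (hU : IsAffineOpen U) {W : Z.Opens}
    (h : W ≤ g ⁻¹ᵁ U) (h' : W ≤ g' ⁻¹ᵁ U) (e : g.appLE U W h = g'.appLE U W h') : W.ι ≫ g = W.ι ≫ g' := by
  haveI : IsAffine U.toScheme := hU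
  have hr : g.resLE U W h = g'.resLE U W h' := by
    refine ext_of_isAffine ?_
    rw [Scheme.Hom.appTop, Scheme.Hom.appTop, Scheme.Hom.app_eq_appLE, Scheme.Hom.app_eq_appLE]
    simp only [Scheme.Hom.preimage_top, Scheme.Hom.resLE_appLE]
    have hW : W.ι ''ᵁ ⊤ = W := W.ι_image_top
    have hU' : U.ι ''ᵁ ⊤ = U := U.ι_image_top
    exact appLE_congr_idx hU' hW e _ _
  have := congrArg (· ≫ U.ι) hr
  simpa using this

variable {Y₀ Y₁ Y₂ Y₃ X : Scheme.{u}} [IsAffine Y₁] [IsAffine Y₂] [IsAffine Y₃]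
  [DiscreteTopology Y₁] [DiscreteTopology Y₂]

/-- Descent along an intersection. -/
theorem exists_fin_descent (a : Y₁ ⟶ Y₀) (c : Y₃ ⟶ Y₁) (d : Y₃ ⟶ Y₂) [Flat a] [Surjective a] [QuasiCompact a]
    (x₁ : Y₁ ⟶ X) (x₂ : Y₂ ⟶ X) (hx : c ≫ x₁ = d ≫ x₂)
    (inter : ∀ (u : Γ(Y₁, ⊤)) (v : Γ(Y₂, ⊤)), c.appTop.hom u = d.appTop.hom v → ∃ w, a.appTop.hom w = u) :
    ∃ x₀ : Y₀ ⟶ X, a ≫ x₀ = x₁ := by
  refine ⟨EffectiveEpi.desc a x₁ fun {Z} g₁ g₂ hg => ?_, EffectiveEpi.fac _ _ _⟩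
  suffices key : ∀ z : Z, ∃ W : Z.Opens, z ∈ W ∧ W.ι ≫ g₁ ≫ x₁ = W.ι ≫ g₂ ≫ x₁ by
    choose W hzW hW using key
    exact Scheme.Cover.hom_ext (Z.openCoverOfIsOpenCover W
      (IsOpenCover.mk (top_unique fun z _ => Opens.mem_iSup.2 ⟨z, hzW z⟩))) _ _ fun z => hW z
  intro z
  obtain ⟨U, hU, hzU, -⟩ :=
    AlgebraicGeometry.exists_isAffineOpen_mem_and_subset (x := x₁ (g₁ z)) (U := ⊤) (by trivial)
  obtain ⟨e₁, he₁, hV₁⟩ := exists_idem (x₁ ⁻¹ᵁ U) (isClosed_discrete _)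
  obtain ⟨e₂, he₂, hV₂⟩ := exists_idem (x₂ ⁻¹ᵁ U) (isClosed_discrete _)
  let V₃ := c ⁻¹ᵁ (x₁ ⁻¹ᵁ U)
  have hV₃d : V₃ = d ⁻¹ᵁ (x₂ ⁻¹ᵁ U) := by
    change (c ≫ x₁) ⁻¹ᵁ U = _
    rw [hx]; rfl
  have hb₁ : Y₃.basicOpen (c.appTop.hom e₁) = V₃ := by rw [← Scheme.Hom.preimage_basicOpen_top, hV₁]
  have hb₂ : Y₃.basicOpen (d.appTop.hom e₂) = V₃ := by rw [← Scheme.Hom.preimage_basicOpen_top, hV₂, hV₃d]
  have hee : c.appTop.hom e₁ = d.appTop.hom e₂ := idem_ext (he₁.map _) (he₂.map _) (hb₁.trans hb₂.symm)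
  obtain ⟨e₀, he₀⟩ := inter e₁ e₂ hee
  let W := g₁ ⁻¹ᵁ (x₁ ⁻¹ᵁ U)
  have hW : W = g₂ ⁻¹ᵁ (x₁ ⁻¹ᵁ U) := by
    change g₁ ⁻¹ᵁ (x₁ ⁻¹ᵁ U) = _
    rw [← hV₁, ← he₀, ← Scheme.Hom.preimage_basicOpen_top, ← Scheme.Hom.comp_preimage,
      ← Scheme.Hom.comp_preimage, hg]
  refine ⟨W, hzU, hom_ext_on hU (g := g₁ ≫ x₁) (g' := g₂ ≫ x₁) le_rfl hW.le ?_⟩
  ext r
  obtain ⟨s₁, hs₁, hr₁⟩ := exists_rep he₁ hV₁ ((x₁.appLE U (x₁ ⁻¹ᵁ U) le_rfl).hom r)
  obtain ⟨s₂, hs₂, hr₂⟩ := exists_rep he₂ hV₂ ((x₂.appLE U (x₂ ⁻¹ᵁ U) le_rfl).hom r)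
  have hss : c.appTop.hom s₁ = d.appTop.hom s₂ := by
    refine rep_ext (he₁.map c.appTop.hom) hb₁ (by rw [← map_mul, hs₁]) ?_ ?_
    · rw [hee, ← map_mul, hs₂]
    have h1 : c.appTop ≫ Y₃.presheaf.map (homOfLE (le_top : V₃ ≤ ⊤)).op =
        Y₁.presheaf.map (homOfLE (le_top : x₁ ⁻¹ᵁ U ≤ ⊤)).op ≫ c.appLE (x₁ ⁻¹ᵁ U) V₃ le_rfl := by
      rw [Scheme.Hom.map_appLE]; rfl
    have h2 : d.appTop ≫ Y₃.presheaf.map (homOfLE (le_top : V₃ ≤ ⊤)).op =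
        Y₂.presheaf.map (homOfLE (le_top : x₂ ⁻¹ᵁ U ≤ ⊤)).op ≫ d.appLE (x₂ ⁻¹ᵁ U) V₃ hV₃d.le := by
      rw [Scheme.Hom.map_appLE]; rfl
    have e1 := RingHom.congr_fun (congrArg CommRingCat.Hom.hom h1) s₁
    have e2 := RingHom.congr_fun (congrArg CommRingCat.Hom.hom h2) s₂
    simp only [CommRingCat.hom_comp, RingHom.comp_apply] at e1 e2
    rw [e1, e2, hr₁, hr₂, ← RingHom.comp_apply, ← RingHom.comp_apply, ← CommRingCat.hom_comp, ← CommRingCat.hom_comp,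
      Scheme.Hom.appLE_comp_appLE, Scheme.Hom.appLE_comp_appLE]
    simp only [hx]
  obtain ⟨w, hw⟩ := inter s₁ s₂ hss
  have hpull : ∀ (g : Z ⟶ Y₁) (hle : W ≤ g ⁻¹ᵁ (x₁ ⁻¹ᵁ U)),
      ((g ≫ x₁).appLE U W hle).hom r = ((g ≫ a).appLE ⊤ W (le_top)).hom w := by
    intro g hle
    rw [← Scheme.Hom.appLE_comp_appLE g x₁ U (x₁ ⁻¹ᵁ U) W le_rfl hle,
      ← Scheme.Hom.appLE_comp_appLE g a ⊤ ⊤ W le_top le_top]
    change (g.appLE _ W _).hom ((x₁.appLE U _ _).hom r) = (g.appLE ⊤ W _).hom ((a.appLE ⊤ ⊤ _).hom w)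
    rw [← hr₁, ← hw, ← RingHom.comp_apply, ← CommRingCat.hom_comp, Scheme.Hom.map_appLE]
    simp [Scheme.Hom.appTop, Scheme.Hom.app_eq_appLE]
  rw [hpull g₁ le_rfl, hpull g₂ hW.le]
  simp only [hg]

end Groth.Agent.EssDim44
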