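import Groth.Prelude.Def_EssDim
import Groth.Agent.QBal44.Basic
import Mathlib.AlgebraicGeometry.Pullbacks
import Mathlib.LinearAlgebra.TensorProduct.Basis
import Mathlib.RingTheory.Artinian.Module

/-!
Finite schemes over field extensions.
-/

set_option autoImplicit false
set_option linter.style.haveILetI false
set_option backward.isDefEq.respectTransparency false
set_option backward.isDefEq.respectTransparency.types false
universe u

open CategoryTheory CategoryTheory.Limits AlgebraicGeometry
open scoped TensorProduct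

noncomputable section

namespace Groth.Agent.EssDim44

theorem coord_rTensor {K P Q V ι : Type*} [CommRing K] [AddCommGroup P] [AddCommGroup Q] [AddCommGroup V]
    [Module K P] [Module K Q] [Module K V] [DecidableEq ι] (b : Module.Basis ι K V) (φ : P →ₗ[K] Q) (x : P ⊗[K] V)
    (j : ι) : TensorProduct.equivFinsuppOfBasisRight b (φ.rTensor V x) j =
      φ (TensorProduct.equivFinsuppOfBasisRight b x j) := by
  induction x with
  | zero => simp
  | tmul p v => simp
  | add x y hx hy => simp [map_add, hx, hy]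

/-- Coefficients in an intersection. -/
theorem exists_tensor_inter {K M L A N V : Type*} [CommRing K] [AddCommGroup M] [AddCommGroup L] [AddCommGroup A]
    [AddCommGroup N] [AddCommGroup V] [Module K M] [Module K L] [Module K A] [Module K N] [Module K V]
    [Module.Free K V] (i : M →ₗ[K] L) (f : L →ₗ[K] N) (g : A →ₗ[K] N)
    (h : ∀ x y, f x = g y → ∃ m, i m = x) (u : L ⊗[K] V) (v : A ⊗[K] V)
    (e : f.rTensor V u = g.rTensor V v) : ∃ w, i.rTensor V w = u := by
  classical
  let b := Module.Free.chooseBasis K V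
  have hj : ∀ j, ∃ m, i m = TensorProduct.equivFinsuppOfBasisRight b u j := fun j =>
    h _ (TensorProduct.equivFinsuppOfBasisRight b v j) (by rw [← coord_rTensor b f, ← coord_rTensor b g, e])
  choose m hm using hj
  let s := (TensorProduct.equivFinsuppOfBasisRight b u).support
  refine ⟨(TensorProduct.equivFinsuppOfBasisRight b).symm (∑ j ∈ s, Finsupp.single j (m j)), ?_⟩
  apply (TensorProduct.equivFinsuppOfBasisRight b).injective
  ext j
  rw [coord_rTensor b i, LinearEquiv.apply_symm_apply]
  simp only [Finsupp.coe_finsetSum, Finset.sum_apply, Finsupp.single_apply]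
  rw [Finset.sum_ite_eq']
  split_ifs with hjs
  · exact hm j
  · rw [map_zero]
    exact (Finsupp.notMem_support_iff.1 hjs).symm

variable {k : Type u} [Field k]

section Points

variable (K K₁ : Type u) [Field K] [Algebra k K] [Field K₁] [Algebra K K₁]
variable (R : Type u) [Field R] [Algebra k R] [Algebra K R] [IsScalarTower k K R]

/-- The finite scheme over `R`. -/
abbrev fpt : Over (Spec (CommRingCat.of k)) :=
  Over.mk (Spec.map (CommRingCat.ofHom (algebraMap R (R ⊗[K] K₁))) ≫ (SGA7.pt (K := k) R).hom)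

/-- Its projection to the point. -/
def fptπ : fpt (k := k) K K₁ R ⟶ SGA7.pt (K := k) R :=
  Over.homMk (Spec.map (CommRingCat.ofHom (algebraMap R (R ⊗[K] K₁)))) rfl

/-- The finite point of the smaller field. -/
abbrev fpt₀ : Over (Spec (CommRingCat.of k)) :=
  Over.mk (Spec.map (CommRingCat.ofHom (algebraMap K K₁)) ≫ (SGA7.pt (K := k) K).hom)

/-- The structure morphism of the finite point. -/
def fpt₀π : fpt₀ (k := k) K K₁ ⟶ SGA7.pt (K := k) K :=
  Over.homMk (Spec.map (CommRingCat.ofHom (algebraMap K K₁))) rfl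

/-- The morphism of points of an extension. -/
def toBaseK : SGA7.pt (K := k) R ⟶ SGA7.pt (K := k) K :=
  EssDim.resPt ((IsScalarTower.toAlgHom k K R))

theorem fpt_sq_ring : (Algebra.TensorProduct.includeRight : K₁ →ₐ[K] R ⊗[K] K₁).toRingHom.comp (algebraMap K K₁) =
    (algebraMap R (R ⊗[K] K₁)).comp (algebraMap K R) :=
  RingHom.ext fun c => by
    simp [Algebra.TensorProduct.algebraMap_apply, Algebra.algebraMap_eq_smul_one, TensorProduct.smul_tmul]

/-- The projection to the finite point of the smaller field. -/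
def fptPr : fpt (k := k) K K₁ R ⟶ fpt₀ (k := k) K K₁ :=
  Over.homMk (Spec.map (CommRingCat.ofHom (Algebra.TensorProduct.includeRight : K₁ →ₐ[K] R ⊗[K] K₁).toRingHom)) (by
    change Spec.map _ ≫ Spec.map _ ≫ Spec.map _ = Spec.map _ ≫ Spec.map _
    rw [← Spec.map_comp, ← Spec.map_comp, ← Spec.map_comp]
    congr 1
    apply CommRingCat.hom_ext
    simp only [CommRingCat.hom_comp, CommRingCat.hom_ofHom]
    rw [← RingHom.comp_assoc, fpt_sq_ring, RingHom.comp_assoc, ← IsScalarTower.algebraMap_eq k K R])

theorem isPullback_fptPr :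
    IsPullback (fptPr (k := k) K K₁ R) (fptπ K K₁ R) (fpt₀π K K₁) (toBaseK K R) := by
  refine IsPullback.of_map (Over.forget _) ?_ ?_
  · apply Over.OverMorphism.ext
    change Spec.map _ ≫ Spec.map _ = Spec.map _ ≫ Spec.map _
    rw [← Spec.map_comp, ← Spec.map_comp]
    congr 1
    exact CommRingCat.hom_ext (fpt_sq_ring K K₁ R)
  · have h := (IsPullback.of_hasPullback (Spec.map (CommRingCat.ofHom (algebraMap K R)))
        (Spec.map (CommRingCat.ofHom (algebraMap K K₁)))).flip
    exact h.of_iso (pullbackSpecIso K R K₁) (Iso.refl _) (Iso.refl _) (Iso.refl _)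
      (by
        rw [Iso.refl_hom, Category.comp_id]
        exact (pullbackSpecIso_hom_snd K R K₁).symm)
      (by
        rw [Iso.refl_hom, Category.comp_id]
        exact (pullbackSpecIso_hom_fst' K R K₁).symm)
      (by simp [fpt₀π]) (by simp [toBaseK])

variable {R} {R' : Type u} [Field R'] [Algebra k R'] [Algebra K R'] [IsScalarTower k K R']

theorem toBaseK_res (f : R →ₐ[K] R') :
    EssDim.resPt (f.restrictScalars k) ≫ toBaseK (k := k) K R = toBaseK K R' := by
  rw [toBaseK, ← EssDim.resPt_comp]
  congr 1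
  exact AlgHom.ext fun c => f.commutes c

/-- Extension of the field. -/
def fptMap (f : R →ₐ[K] R') : fpt (k := k) K K₁ R' ⟶ fpt (k := k) K K₁ R :=
  (isPullback_fptPr K K₁ R).lift (fptPr K K₁ R') (fptπ K K₁ R' ≫ EssDim.resPt (f.restrictScalars k)) (by
    rw [Category.assoc, toBaseK_res, (isPullback_fptPr K K₁ R').w])

theorem fptMap_pr (f : R →ₐ[K] R') : fptMap (k := k) K K₁ f ≫ fptPr K K₁ R = fptPr K K₁ R' :=
  IsPullback.lift_fst _ _ _ _

theorem fptMap_π (f : R →ₐ[K] R') :
    fptMap (k := k) K K₁ f ≫ fptπ K K₁ R = fptπ K K₁ R' ≫ EssDim.resPt (f.restrictScalars k) :=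
  IsPullback.lift_snd _ _ _ _

theorem isPullback_fptMap (f : R →ₐ[K] R') :
    IsPullback (fptMap (k := k) K K₁ f) (fptπ K K₁ R') (fptπ K K₁ R) (EssDim.resPt (f.restrictScalars k)) := by
  refine IsPullback.of_right ?_ (fptMap_π K K₁ f) (isPullback_fptPr K K₁ R)
  rw [fptMap_pr, toBaseK_res]
  exact isPullback_fptPr K K₁ R'

theorem fptMap_left (f : R →ₐ[K] R') : (fptMap (k := k) K K₁ f).left =
    Spec.map (CommRingCat.ofHom (Algebra.TensorProduct.map f (AlgHom.id K K₁)).toRingHom) := by
  have h := isPullback_fptPr (k := k) K K₁ R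
  refine (h.map (Over.forget _)).hom_ext ?_ ?_
  · change _ ≫ (fptPr (k := k) K K₁ R).left = _ ≫ Spec.map _
    rw [← Over.comp_left, fptMap_pr, ← Spec.map_comp, ← CommRingCat.ofHom_comp]
    change Spec.map _ = Spec.map _
    congr 2
    exact RingHom.ext fun c => by simp
  · change _ ≫ (fptπ (k := k) K K₁ R).left = _ ≫ Spec.map _
    rw [← Over.comp_left, fptMap_π, ← Spec.map_comp, ← CommRingCat.ofHom_comp]
    change Spec.map _ ≫ Spec.map _ = Spec.map _
    rw [← Spec.map_comp]
    congr 1

end Points

end Groth.Agent.EssDim44
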