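import Groth.Agent.EssDim44.Twist
import Groth.Agent.BS25.Basic

/-!
A split scheme whose frame comes from a subfield is a base change of the corresponding form.
-/

set_option autoImplicit false
set_option linter.style.haveILetI false
set_option backward.isDefEq.respectTransparency false
set_option backward.isDefEq.respectTransparency.types false
universe u

open CategoryTheory CategoryTheory.Limits AlgebraicGeometry

noncomputable section

namespace Groth.Agent.EssDim44

open Csa25

theorem exists_isPullback_of_frame {K K' L L' : Type u} [Field K] [Field K'] [Field L] [Field L'] [Algebra K K']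
    [Algebra K L] [Algebra L L'] [Algebra K' L'] [Algebra K L'] [IsScalarTower K L L'] [IsScalarTower K K' L']
    [FiniteDimensional L L'] [IsGalois L L'] {n : ℕ} {C Y : Scheme.{u}} {f : C ⟶ Spec (CommRingCat.of L)}
    {s : Y ⟶ Spec (CommRingCat.of K)} {e : BrSev.Splitting f L' n} (F : Frame e)
    {eY : BrSev.Splitting s K' n} (FY : Frame eY)
    (hres : ∀ σ : L' ≃ₐ[L] L', ∃ τ : K' ≃ₐ[K] K',
      (∀ x, σ (algebraMap K' L' x) = algebraMap K' L' (τ x)) ∧ F.mat σ = (FY.mat τ).map (algebraMap K' L')) :
    ∃ h : C ⟶ Y, IsPullback h f s (Spec.map (CommRingCat.ofHom (algebraMap K L))) := by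
  let t := Spec.map (CommRingCat.ofHom (algebraMap K L))
  let T := Spec.map (CommRingCat.ofHom (algebraMap L L'))
  let lm := linMap (n := n) (algebraMap K' L') 1 isUnit_one
  let h' : BrSev.bc f L' ⟶ Y := e.iso.hom ≫ lm ≫ eY.iso.inv ≫ BrSev.proj s K'
  have hinv : ∀ σ : L' ≃ₐ[L] L', bcAct f σ ≫ h' = h' := by
    intro σ
    obtain ⟨τ, hτ, hm⟩ := hres σ
    have h1 : bcAct f σ ≫ e.iso.hom = e.iso.hom ≫ linMap (σ : L' →+* L') (F.mat σ) (F.isUnit σ) :=
      (Iso.hom_inv_id_assoc e.iso _).symm.trans (congrArg (e.iso.hom ≫ ·) (F.act σ))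
    have h2 : linMap (σ : L' →+* L') (F.mat σ) (F.isUnit σ) ≫ lm = lm ≫ linMap (τ : K' →+* K') (FY.mat τ) (FY.isUnit τ) :=
      (linMap_comp _ _ _ _).trans ((linMap_congr (RingHom.ext hτ) (by
        rw [Matrix.map_one _ (map_zero _) (map_one _), mul_one, one_mul]; exact hm)).trans (linMap_comp _ _ _ _).symm)
    have h3 : linMap (τ : K' →+* K') (FY.mat τ) (FY.isUnit τ) ≫ eY.iso.inv ≫ BrSev.proj s K' =
        eY.iso.inv ≫ BrSev.proj s K' := by
      rw [← FY.act τ]
      simp only [Category.assoc, Iso.hom_inv_id_assoc, bcAct_proj]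
    simp only [h']
    rw [← Category.assoc, h1, Category.assoc, ← Category.assoc (linMap _ _ _) lm, h2, Category.assoc, h3]
  let C' : Over (Spec (CommRingCat.of L)) := Over.mk f
  have hgal : ∀ σ : L' ≃ₐ[L] L', GalTw.galMap L' σ C' = bcAct f σ := fun σ => by
    apply pullback.hom_ext
    · exact (GalTw.galMap_fst L' σ C').trans (bcAct_proj f σ).symm
    · exact (GalTw.galMap_snd L' σ C').trans (bcAct_bcTo f σ).symm
  obtain ⟨h, hh, -⟩ := Quot84.existsUnique_desc (GalTw97.isQuot_galRho (K := L') C') h' fun g =>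
    (congrArg (· ≫ h') (hgal g⁻¹)).trans (hinv g⁻¹)
  change BrSev.proj f L' ≫ h = h' at hh
  -- the square over `Spec L'`
  have hY : IsPullback (eY.iso.inv ≫ BrSev.proj s K') (CohB1.ProjSpace.toSpec n K') s
      (Spec.map (CommRingCat.ofHom (algebraMap K K'))) :=
    (IsPullback.of_hasPullback s _).of_iso eY.iso (Iso.refl _) (Iso.refl _) (Iso.refl _) (by simp) (by
      rw [Iso.refl_hom, Category.comp_id]; exact eY.comm.symm) (by simp) (by simp)
  have hlm := ((isPullback_linMap_one (n := n) (R := K') (R' := L')).paste_horiz hY).of_iso e.iso.symm (Iso.refl _)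
    (Iso.refl _) (Iso.refl _) (f' := s) (fst' := h') (snd' := BrSev.bcTo f L') (g' := T ≫ t)
      (by simp [h', lm]) (by rw [Iso.refl_hom, Category.comp_id, Iso.symm_hom, Iso.eq_inv_comp]; exact e.comm)
      (by simp) (by
        simp only [Iso.refl_hom, Category.id_comp, Category.comp_id, T, t, ← Spec.map_comp, ← CommRingCat.ofHom_comp,
          ← IsScalarTower.algebraMap_eq])
  have hcomm : h ≫ s = f ≫ t := Quot84.eq_of_comp_eq (GalTw97.isQuot_galRho (K := L') C') (by
    show BrSev.proj f L' ≫ h ≫ s = BrSev.proj f L' ≫ f ≫ t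
    rw [reassoc_of% hh, hlm.w, pullback.condition_assoc])
  let c : C ⟶ pullback s t := pullback.lift h f hcomm
  let c' : BrSev.bc f L' ⟶ pullback (pullback.snd s t) T :=
    pullback.lift (BrSev.proj f L' ≫ c) (BrSev.bcTo f L') (by
      rw [Category.assoc, pullback.lift_snd, pullback.condition])
  have hsq : IsPullback c' (BrSev.proj f L') (pullback.fst (pullback.snd s t) T) c := by
    refine (IsPullback.of_bot ?_ (pullback.lift_fst _ _ _).symm (IsPullback.of_hasPullback (pullback.snd s t) T)).flip
    rw [pullback.lift_snd, pullback.lift_snd]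
    exact IsPullback.of_hasPullback f T
  haveI : IsIso c' := by
    have hP := (IsPullback.of_hasPullback (pullback.snd s t) T).flip.paste_vert (IsPullback.of_hasPullback s t).flip
    have e1 : c' = (hlm.isoIsPullback _ _ hP.flip).hom := by
      apply hP.flip.hom_ext
      · rw [IsPullback.isoIsPullback_hom_fst, pullback.lift_fst_assoc, Category.assoc, pullback.lift_fst, hh]
      · rw [IsPullback.isoIsPullback_hom_snd, pullback.lift_snd]
    rw [e1]; infer_instance
  haveI : IsIso c := MorphismProperty.of_isPullback_of_descendsAlong (P := MorphismProperty.isomorphisms Scheme.{u})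
    (Q := (@Surjective ⊓ @Flat ⊓ @QuasiCompact : MorphismProperty Scheme.{u})) hsq
    (MorphismProperty.pullback_fst _ _ (BS25.fpqc_spec L L')) (show IsIso c' by infer_instance)
  exact ⟨h, (IsPullback.of_hasPullback s t).of_iso (asIso c).symm (Iso.refl _) (Iso.refl _) (Iso.refl _)
    (by simp [c]) (by simp [c]) (by simp) (by simp [t])⟩

end Groth.Agent.EssDim44
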