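import Groth.Agent.EssDim44.P1Pts
import Groth.Agent.S6544
import Groth.Agent.S0223
import Groth.Agent.S10829
import Groth.Agent.Crv77.RatPoint
import Groth.Agent.Crv77.FFBridge
import Groth.Agent.Grpd80.DimStab
import Groth.Agent.H98Proj.SmoothPn
import Groth.Agent.SpFP87.Reduced
import Groth.Agent.Curves2.ProjLineProper
import Groth.Prelude.Def_EssDim
import Groth.Prelude.Def_StCurv

/-!
Genus zero curves with one or two rational points.
-/

set_option autoImplicit false
set_option linter.style.haveILetI false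
set_option backward.isDefEq.respectTransparency false
set_option backward.isDefEq.respectTransparency.types false
universe u

open CategoryTheory CategoryTheory.Limits AlgebraicGeometry

noncomputable section

namespace Groth.Agent.EssDim44

/-- A base change of the line along fields is the line. -/
theorem exists_iso_of_isPullback {K Ω : Type u} [Field K] [Field Ω] [Algebra K Ω] {X : Scheme.{u}}
    {i : X ⟶ CohB1.ProjSpace 1 K} {q : X ⟶ Spec (CommRingCat.of Ω)}
    (h : IsPullback i q (CohB1.ProjSpace.toSpec 1 K) (Spec.map (CommRingCat.ofHom (algebraMap K Ω)))) :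
    ∃ e : X ≅ CohB1.ProjSpace 1 Ω, e.hom ≫ CohB1.ProjSpace.toSpec 1 Ω = q :=
  ⟨h.isoIsPullback _ _ (Csa25.isPullback_linMap_one (n := 1)),
    h.isoIsPullback_hom_snd _ _ (Csa25.isPullback_linMap_one (n := 1))⟩

theorem isCurveOfGenus_projLine (K : Type u) [Field K] :
    ModFun.IsCurveOfGenus 0 (CohB1.ProjSpace.toSpec 1 K) := by
  have hbc : ∀ (Ω : Type u) [Field Ω] (t : Spec (CommRingCat.of Ω) ⟶ Spec (CommRingCat.of K)) (X : Scheme.{u})
      (i : X ⟶ CohB1.ProjSpace 1 K) (q : X ⟶ Spec (CommRingCat.of Ω)),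
      IsPullback i q (CohB1.ProjSpace.toSpec 1 K) t → Nonempty (X ≅ CohB1.ProjSpace 1 Ω) := by
    intro Ω _ t X i q h
    letI : Algebra K Ω := (Spec.preimage t).hom.toAlgebra
    have ht : Spec.map (CommRingCat.ofHom (algebraMap K Ω)) = t := Spec.map_preimage t
    rw [← ht] at h
    obtain ⟨e, -⟩ := exists_iso_of_isPullback h
    exact ⟨e⟩
  refine ⟨H98Proj.smooth_toSpec 1 K, Curves2.ProjLine.isProper_toSpec K 1, ⟨fun Ω _ t X i q h => ?_⟩,
    fun Ω _ _ t X i q h => ?_⟩
  · obtain ⟨e⟩ := hbc Ω t X i q h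
    haveI := Curves2.ProjLine.irreducibleSpace Ω 1
    exact e.inv.homeomorph.surjective.irreducibleSpace e.inv.homeomorph.continuous
  · obtain ⟨e⟩ := hbc Ω t X i q h
    letI : X.Over (Spec (CommRingCat.of Ω)) := ⟨q⟩
    refine ⟨?_, ?_⟩
    · rw [show topologicalKrullDim X = topologicalKrullDim (CohB1.ProjSpace 1 Ω) from
        e.hom.homeomorph.isHomeomorph.topologicalKrullDim_eq, S10829.result Ω 1]
      rfl
    · haveI := Crv77.subsingleton_h1_of_iso_projLine (k := Ω) e
      exact Module.finrank_zero_of_subsingleton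

theorem stdPt_inj (K : Type u) [Field K] {i l : Fin 2}
    (c : Spec (CommRingCat.of K)) (h : (stdPt K i).base c = (stdPt K l).base c) : i = l := by
  by_contra hne
  have hmem : ∀ (m : Fin 2), (stdPt K m).base c ∈ Proj.basicOpen (CohB1.polyGrading 1 K) (MvPolynomial.X m) := by
    intro m
    rw [← Proj.opensRange_awayι (CohB1.polyGrading 1 K) (MvPolynomial.X m)
      (Approx60.ProjCharts.X₁ K 1 m).2 one_pos]
    exact ⟨_, (Scheme.Hom.comp_apply _ _ c).symm⟩
  have hi := hmem i
  rw [h] at hi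
  change c ∈ stdPt K l ⁻¹ᵁ Proj.basicOpen (CohB1.polyGrading 1 K) (MvPolynomial.X i) at hi
  rw [stdPt, mkPt, PnConst7.point, Scheme.Hom.comp_preimage] at hi
  erw [Proj.awayι_preimage_basicOpen (CohB1.polyGrading 1 K) (Approx60.ProjCharts.X₁ K 1 l).2 one_pos
    (Approx60.ProjCharts.X₁ K 1 i).2 one_pos] at hi
  have hu : IsUnit (evP K (Pi.single l 1) (MvPolynomial.X l)) := by simp
  have h0 : Approx60.ProjCharts.awayEval (evP K (Pi.single l 1)) (MvPolynomial.X l) hu
      (HomogeneousLocalization.Away.isLocalizationElem (Approx60.ProjCharts.X₁ K 1 l).2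
        (Approx60.ProjCharts.X₁ K 1 i).2) = 0 := by
    unfold HomogeneousLocalization.Away.isLocalizationElem HomogeneousLocalization.Away.mk
    exact (Approx60.ProjCharts.isUnit_den _ _ hu _).mul_left_eq_zero.1
      ((Approx60.ProjCharts.awayEval_spec _ _ hu _).trans (by simp [Approx60.ProjCharts.X₁, Pi.single_eq_of_ne hne]))
  exact hi (by
    show _ ∈ (c : PrimeSpectrum K).asIdeal
    rw [CommRingCat.hom_ofHom, h0]
    exact Ideal.zero_mem _)

theorem toSpec_stdPt (K : Type u) [Field K] (i : Fin 2) :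
    stdPt K i ≫ CohB1.ProjSpace.toSpec 1 K = 𝟙 _ := mkPt_toSpec K _ _ _

variable {k : Type u} [Field k] {n : ℕ}

/-- The standard pointed line. -/
def stdFam (hn : n ≤ 2) (K : Type u) [Field K] [Algebra k K] :
    StkCnt.pts (CurvSt.Mgn (Spec (CommRingCat.of k)) 0 n) K :=
  ⟨⟨⟨SGA7.pt (K := k) K, CohB1.ProjSpace 1 K, CohB1.ProjSpace.toSpec 1 K, fun i => stdPt K (i.castLE hn),
      fun i => toSpec_stdPt K _⟩, isCurveOfGenus_projLine K, fun _ _ hij c h =>
        hij (Fin.castLE_injective hn (stdPt_inj K c h))⟩, rfl⟩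

/-- A pointed genus zero curve over a field is the standard pointed line. -/
theorem exists_iso_std (hn : n ≤ 2) (hn0 : 0 < n) {L : Type u} [Field L] {C : Scheme.{u}}
    (f : C ⟶ Spec (CommRingCat.of L)) (σ : Fin n → (Spec (CommRingCat.of L) ⟶ C)) (hσ : ∀ i, σ i ≫ f = 𝟙 _)
    (h : CurvSt.IsSmoothPtdFam f σ 0) :
    ∃ e : C ≅ CohB1.ProjSpace 1 L, e.hom ≫ CohB1.ProjSpace.toSpec 1 L = f ∧
      ∀ i, σ i ≫ e.hom = stdPt L (i.castLE hn) := by
  obtain ⟨⟨hsm, hpr, hgi, hfib⟩, hdis⟩ := h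
  letI : C.Over (Spec (CommRingCat.of L)) := ⟨f⟩
  haveI : Smooth (C ↘ Spec (CommRingCat.of L)) := hsm
  haveI : IsProper (C ↘ Spec (CommRingCat.of L)) := hpr
  haveI : GeometricallyIrreducible (C ↘ Spec (CommRingCat.of L)) := hgi
  haveI : IsReduced C := SpFP87.isReduced_of_smooth (C ↘ Spec (CommRingCat.of L))
  haveI : IrreducibleSpace C := hgi.geometrically_irreducibleSpace (𝟙 _) (𝟙 C) f
    (IsPullback.of_horiz_isIso ⟨by simp⟩)
  haveI : IsIntegral C := isIntegral_of_irreducibleSpace_of_isReduced _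
  let Ω := AlgebraicClosure L
  let t := Spec.map (CommRingCat.ofHom (algebraMap L Ω))
  obtain ⟨hd, hg⟩ := hfib Ω t (pullback f t) (pullback.fst f t) (pullback.snd f t) (IsPullback.of_hasPullback f t)
  have hdim : topologicalKrullDim C = 1 := (Grpd80.dim_bc_eq (L := Ω) f).symm.trans hd
  letI : (pullback f t).Over (Spec (CommRingCat.of Ω)) := ⟨pullback.snd f t⟩
  have h0 := Crv77.finrank_h0_of_smooth L C
  have hgen : Curv2.genus L C = 0 :=
    ((S0223.result L C hdim h0 Ω (pullback f t) (pullback.fst f t) (IsPullback.of_hasPullback f t)).2.symm).trans hg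
  obtain ⟨hc, -, hres⟩ := Crv77.section_point L (σ ⟨0, hn0⟩) (hσ _)
  haveI : IsIntegrallyClosed (C.presheaf.stalk (σ ⟨0, hn0⟩ (IsLocalRing.closedPoint L))) := by
    obtain ⟨_, hv⟩ := Crv77.valuationRing_stalks_of_smooth (k := L) hdim (σ ⟨0, hn0⟩ (IsLocalRing.closedPoint L))
    infer_instance
  obtain ⟨M, hM, hdeg, -⟩ := Crv77.exists_invertible_of_point L hdim hc hres
  obtain ⟨e₁, he₁⟩ := S6544.result L C hdim hgen M hM (hdeg ▸ odd_one)
  obtain ⟨e₂, he₂, hP⟩ := exists_aut_pts L hn hn0 (fun i => σ i ≫ e₁.hom)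
    (fun i => by rw [Category.assoc, he₁]; exact hσ i) (fun i l hil => by
      by_contra hne
      exact hdis i l hne (IsLocalRing.closedPoint L)
        (congrArg (fun s : Spec (CommRingCat.of L) ⟶ C => s.base (IsLocalRing.closedPoint L))
          ((cancel_mono e₁.hom).1 hil)))
  exact ⟨e₁ ≪≫ e₂, by rw [Iso.trans_hom, Category.assoc, he₂, he₁]; rfl, fun i => by
    rw [Iso.trans_hom, ← Category.assoc]; exact hP i⟩

theorem edSt_eq_zero (hn : n ≤ 2) (hn0 : 0 < n)
    [FibCat.IsFibGrpd (CurvSt.Mgn (Spec (CommRingCat.of k)) 0 n).p] :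
    EssDim.edSt (CurvSt.Mgn (Spec (CommRingCat.of k)) 0 n) = 0 := by
  refine le_antisymm (iSup_le fun L => iSup_le fun _ => iSup_le fun _ => iSup_le fun ξ => ?_) ?_
  · induction ξ using Quot.ind with
    | mk x => ?_
    obtain ⟨⟨⟨base, C, f, σ, hσ⟩, hA⟩, hx⟩ := x
    change base = _ at hx
    subst hx
    obtain ⟨e, hef, heσ⟩ := exists_iso_std hn hn0 f σ hσ hA
    let K : IntermediateField k L := ⊥
    let x₀ := stdFam (k := k) hn K
    let φ : (⟨SGA7.pt (K := k) L, C, f, σ, hσ⟩ : CurvSt.PtFamObj _ n) ⟶ x₀.1.obj :=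
      { base := EssDim.resPt K.val
        top := e.hom ≫ Csa25.linMap (n := 1) (algebraMap K L) 1 isUnit_one
        cart := (IsPullback.of_horiz_isIso (show CommSq e.hom f (CohB1.ProjSpace.toSpec 1 L)
          (𝟙 _) from ⟨by rw [hef, Category.comp_id]⟩)).paste_horiz
          (Csa25.isPullback_linMap_one (n := 1)) |>.of_iso (Iso.refl _) (Iso.refl _) (Iso.refl _) (Iso.refl _)
            (by simp) (by simp) (by simp [x₀, stdFam]) (by
              simp only [Iso.refl_hom, Category.id_comp, Category.comp_id]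
              rfl)
        w_sect := fun i => by
          show σ i ≫ e.hom ≫ _ = (EssDim.resPt K.val).left ≫ stdPt K (i.castLE hn)
          rw [← Category.assoc, heσ, stdPt_linMap]
          rfl }
    have hd : EssDim.Descends (Gerb.isoClPsh (CurvSt.Mgn (Spec (CommRingCat.of k)) 0 n))
        (Quot.mk (Gerb.IsoRel _ (SGA7.pt (K := k) L)) ⟨⟨⟨SGA7.pt (K := k) L, C, f, σ, hσ⟩, hA⟩, rfl⟩) K :=
      (EssDim.descends_isoCl_iff _ ⟨_, rfl⟩ _).2 ⟨x₀, ObjectProperty.homMk φ, IsHomLift.of_fac' _ _ _ rfl rfl (by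
        simp only [eqToHom_refl, Category.id_comp, Category.comp_id]
        rfl)⟩
    refine le_trans (WithBot.coe_le_coe.2 (EssDim.edAt_le_of_descends hd)) ?_
    haveI : Algebra.IsAlgebraic k K :=
      Algebra.IsAlgebraic.of_injective (IntermediateField.botEquiv k L).toAlgHom
        (IntermediateField.botEquiv k L).injective
    rw [trdeg_eq_zero]
    simp
  · refine le_trans ?_ (EssDim.edAt_le_ed (L := k) (Quot.mk _ (stdFam (k := k) hn k)))
    exact WithBot.coe_le_coe.2 bot_le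

end Groth.Agent.EssDim44
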