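import Groth.Agent.EssDim44.Genus0
import Groth.Agent.EssDim44.FormDesc
import Groth.Agent.CrvPic30.Classify
import Groth.Agent.FF30.RR
import Groth.Agent.Crv77.FFBridge

/-!
Quadratic splitting fields of genus zero curves and the normal form of their frames.
-/

set_option autoImplicit false
set_option linter.style.haveILetI false
set_option backward.isDefEq.respectTransparency false
set_option backward.isDefEq.respectTransparency.types false
universe u

open CategoryTheory CategoryTheory.Limits AlgebraicGeometry Matrix FunFld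

noncomputable section

namespace Groth.Agent.EssDim44

open Csa25

theorem isCurveOfGenus_of_isPullback {g : ℕ} {C T C' T' : Scheme.{u}} {p : C ⟶ T} {p' : C' ⟶ T'} {a : C' ⟶ C}
    {b : T' ⟶ T} (h : IsPullback a p' p b) (hp : ModFun.IsCurveOfGenus g p) : ModFun.IsCurveOfGenus g p' :=
  ⟨MorphismProperty.of_isPullback (P := @Smooth) h hp.1, MorphismProperty.of_isPullback (P := @IsProper) h hp.2.1,
    MorphismProperty.of_isPullback (P := @GeometricallyIrreducible) h hp.2.2.1,
    fun Ω _ _ t X i q hX => hp.2.2.2 Ω (t ≫ b) X (i ≫ a) q (hX.paste_horiz h)⟩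

/-- A genus zero curve has a point of degree at most two. -/
theorem exists_quadratic_point {L : Type u} [Field L] [PerfectField L] {C : Scheme.{u}}
    (f : C ⟶ Spec (CommRingCat.of L)) (hC : ModFun.IsCurveOfGenus 0 f) :
    ∃ (L' : Type u) (_ : Field L') (_ : Algebra L L'), FiniteDimensional L L' ∧ Module.finrank L L' ≤ 2 ∧
      ∃ P : Spec (CommRingCat.of L') ⟶ C, P ≫ f = Spec.map (CommRingCat.ofHom (algebraMap L L')) := by
  classical
  letI : C.Over (Spec (CommRingCat.of L)) := ⟨f⟩
  haveI : Smooth (C ↘ Spec (CommRingCat.of L)) := hC.1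
  haveI : IsProper (C ↘ Spec (CommRingCat.of L)) := hC.2.1
  haveI : GeometricallyIrreducible (C ↘ Spec (CommRingCat.of L)) := hC.2.2.1
  haveI : IsReduced C := SpFP87.isReduced_of_smooth (C ↘ Spec (CommRingCat.of L))
  haveI : IrreducibleSpace C := hC.2.2.1.geometrically_irreducibleSpace (𝟙 _) (𝟙 C) f
    (IsPullback.of_horiz_isIso ⟨by simp⟩)
  haveI : IsIntegral C := isIntegral_of_irreducibleSpace_of_isReduced _
  haveI : LocallyOfFiniteType f := inferInstanceAs (LocallyOfFiniteType (C ↘ Spec (CommRingCat.of L)))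
  let Ω := AlgebraicClosure L
  let t := Spec.map (CommRingCat.ofHom (algebraMap L Ω))
  obtain ⟨hd, hg⟩ := hC.2.2.2 Ω t (pullback f t) (pullback.fst f t) (pullback.snd f t) (IsPullback.of_hasPullback f t)
  have hdim : topologicalKrullDim C = 1 := (Grpd80.dim_bc_eq (L := Ω) f).symm.trans hd
  letI : (pullback f t).Over (Spec (CommRingCat.of Ω)) := ⟨pullback.snd f t⟩
  have h0 := Crv77.finrank_h0_of_smooth L C
  have hgen : Curv2.genus L C = 0 :=
    ((S0223.result L C hdim h0 Ω (pullback f t) (pullback.fst f t) (IsPullback.of_hasPullback f t)).2.symm).trans hg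
  letI : Algebra L C.functionField := CrvPic30.ffAlg L C
  have h : CrvPic30.Setup L C := CrvPic30.setup_of_smooth hdim
  have hF := h.ffield
  have hg0 : genus L C.functionField = 0 := h.genus_eq.symm.trans hgen
  obtain ⟨W, hW⟩ := FF30.exists_isCanonical h.ff
  have hdW : W.deg = -2 := by rw [FF30.deg_canonical h.ff hW, hg0]; norm_num
  have hl := FF30.ell_eq_of_deg_gt h.ff (D := -W) (by rw [FF30.deg_neg, hdW, hg0]; norm_num)
  rw [FF30.deg_neg, hdW, hg0] at hl
  obtain ⟨z, hz, hz0⟩ := (FunFld.L (-W)).exists_mem_ne_zero_of_ne_bot (fun hbot => by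
    rw [ell, hbot, finrank_bot] at hl; norm_num at hl)
  rw [FF30.mem_L_iff_ord hz0] at hz
  let D : Divisor L C.functionField := div L z + -W
  have hD : 0 ≤ D := fun P => by
    have := hz P
    simp only [D, Finsupp.coe_zero, Pi.zero_apply, Finsupp.coe_add, Pi.add_apply, hF.div_apply]
    linarith
  have hdD : D.deg = 2 := by rw [FF30.deg_add, hF.deg_div, FF30.deg_neg, hdW]; norm_num
  obtain ⟨P, hP⟩ : ∃ P, D P ≠ 0 := by
    by_contra hcon
    push Not at hcon
    rw [show D = 0 from Finsupp.ext hcon, FF30.deg_zero] at hdD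
    exact absurd hdD (by norm_num)
  have hle : Finsupp.single P 1 ≤ D := fun Q => by
    rw [Finsupp.single_apply]
    have := hD Q
    simp only [Finsupp.coe_zero, Pi.zero_apply] at this
    split
    · rename_i hQ; subst hQ; omega
    · exact this
  have hdP : P.deg ≤ 2 := by
    have h1 := FF30.deg_mono hle
    rw [FF30.deg_single, hdD] at h1
    omega
  let x := h.place.symm P
  have hx : (h.place x).deg = P.deg := by rw [Equiv.apply_symm_apply]
  rw [h.place_deg] at hx
  letI : Algebra L (C.residueField x.1) := (WC97.kStr f x.1).toAlgebra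
  have hx' : Module.finrank L (C.residueField x.1) = P.deg := hx
  exact ⟨C.residueField x.1, inferInstance, inferInstance,
    Module.finite_of_finrank_pos (hx' ▸ hF.deg_pos P), hx' ▸ hdP, C.fromSpecResidueField x.1,
    (WC97.kStr_spec f x.1).symm⟩

/-- The splitting given by a point. -/
theorem exists_splitting_of_point {L : Type u} [Field L] {C : Scheme.{u}} (f : C ⟶ Spec (CommRingCat.of L))
    (hC : ModFun.IsCurveOfGenus 0 f) (L' : Type u) [Field L'] [Algebra L L'] (P : Spec (CommRingCat.of L') ⟶ C)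
    (hP : P ≫ f = Spec.map (CommRingCat.ofHom (algebraMap L L'))) :
    Nonempty (BrSev.Splitting f L' 1) := by
  let σ : Fin 1 → (Spec (CommRingCat.of L') ⟶ BrSev.bc f L') := fun _ =>
    pullback.lift P (𝟙 _) (by rw [Category.id_comp, hP])
  obtain ⟨e, he, -⟩ := exists_iso_std (n := 1) (by norm_num) one_pos (BrSev.bcTo f L') σ
    (fun _ => pullback.lift_snd _ _ _)
    ⟨isCurveOfGenus_of_isPullback (IsPullback.of_hasPullback _ _) hC,
      fun i j hij => absurd (Subsingleton.elim i j) hij⟩
  exact ⟨⟨e, he⟩⟩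

/-- The matrix of the normal form. -/
abbrev nMat {R : Type u} [CommRing R] (c : R) : Matrix (Fin 2) (Fin 2) R := !![0, c; 1, 0]

theorem nMat_mul_self {R : Type u} [CommRing R] (c : R) : nMat c * nMat c = c • (1 : Matrix (Fin 2) (Fin 2) R) := by
  ext i j
  fin_cases i <;> fin_cases j <;> simp

theorem isUnit_nMat {R : Type u} [Field R] {c : R} (hc : c ≠ 0) : IsUnit (nMat c) :=
  (Matrix.isUnit_iff_isUnit_det _).2 (isUnit_iff_ne_zero.2 (by simp [Matrix.det_fin_two, hc]))

theorem nMat_map {R S : Type u} [CommRing R] [CommRing S] (φ : R →+* S) (c : R) : (nMat c).map φ = nMat (φ c) := by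
  ext i j
  fin_cases i <;> fin_cases j <;> simp

/-- In suitable coordinates a quadratic frame is the standard one. -/
theorem exists_normal_frame {L L' : Type u} [Field L] [Field L'] [Algebra L L'] [FiniteDimensional L L'] [IsGalois L L']
    {C : Scheme.{u}} {f : C ⟶ Spec (CommRingCat.of L)} (e : BrSev.Splitting f L' 1) (σ : L' ≃ₐ[L] L') (hσ : σ ≠ 1)
    (hall : ∀ τ : L' ≃ₐ[L] L', τ = 1 ∨ τ = σ) :
    ∃ (e' : BrSev.Splitting f L' 1) (F : Frame e') (c : L), c ≠ 0 ∧ F.mat 1 = 1 ∧
      F.mat σ = nMat (algebraMap L L' c) := by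
  classical
  obtain ⟨F⟩ := exists_frame e
  have hss : σ * σ = 1 := (hall (σ * σ)).resolve_right fun h => hσ (mul_left_cancel (h.trans (mul_one σ).symm))
  have hbc1 : bcAct f (1 : L' ≃ₐ[L] L') = 𝟙 _ := by
    apply pullback.hom_ext
    · rw [bcAct_proj, Category.id_comp]
    · rw [bcAct_bcTo, Category.id_comp]
      refine (congrArg (BrSev.bcTo f L' ≫ ·) ?_).trans (Category.comp_id _)
      exact Spec.map_id (CommRingCat.of L')
  have h1 : linMap (RingHom.id L') (F.mat 1) (F.isUnit 1) = 𝟙 _ := by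
    refine (linMap_congr (by ext; rfl) rfl).trans ((F.act 1).symm.trans ?_)
    rw [hbc1, Category.id_comp, Iso.inv_hom_id]
  obtain ⟨d, hd, hd'⟩ := eq_scalar_of_linMap_eq_id _ h1
  obtain ⟨c₀, hc₀, hc₀'⟩ := F.mul σ σ
  rw [hss, hd', smul_smul] at hc₀'
  let g := F.mat σ
  let c := c₀ * d
  have hc : c ≠ 0 := mul_ne_zero hc₀ hd
  change g * g.map σ = c • 1 at hc₀'
  have hσσ : ∀ x, σ (σ x) = x := fun x => DFunLike.congr_fun hss x
  -- the constant is invariant
  have hσc : σ c = c := by
    have h2 : g.map σ * g = c • (1 : Matrix (Fin 2) (Fin 2) L') := by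
      have h3 : g * ((c⁻¹) • g.map σ) = 1 := by rw [Matrix.mul_smul, hc₀', inv_smul_smul₀ hc]
      have h4 := mul_eq_one_comm.1 h3
      rw [Matrix.smul_mul] at h4
      rw [← h4, smul_inv_smul₀ hc]
    have h5 := congrArg (fun M : Matrix (Fin 2) (Fin 2) L' => (σ : L' →+* L').mapMatrix M) hc₀'
    simp only [RingHom.mapMatrix_apply, Matrix.map_mul, Matrix.map_map] at h5
    rw [show ((σ : L' →+* L') ∘ ⇑σ) = id from funext hσσ, Matrix.map_id] at h5
    have h6 := (h2.symm.trans h5)
    have h7 := congrFun₂ h6 0 0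
    simp at h7
    exact h7.symm
  obtain ⟨c', hc'⟩ := (IsGalois.mem_range_algebraMap_iff_fixed c).2 fun τ => by
    rcases hall τ with rfl | rfl
    · rfl
    · exact hσc
  -- a vector moved by the frame
  let T : (Fin 2 → L') → (Fin 2 → L') := fun v => g *ᵥ (σ ∘ v)
  obtain ⟨v, hv⟩ : ∃ v, (Matrix.of ![v, T v]).det ≠ 0 := by
    by_contra hcon
    push Not at hcon
    have e0 := hcon ![1, 0]
    have e1 := hcon ![0, 1]
    have e2 := hcon ![1, 1]
    simp [T, Matrix.det_fin_two, Matrix.mulVec, dotProduct, Fin.sum_univ_two] at e0 e1 e2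
    refine hσ (AlgEquiv.ext fun t => ?_)
    have e3 := hcon ![1, t]
    simp [T, Matrix.det_fin_two, Matrix.mulVec, dotProduct, Fin.sum_univ_two, e0, e1] at e2 e3
    have hg00 : g 0 0 ≠ 0 := fun h0 => (F.isUnit σ).map Matrix.detMonoidHom |>.ne_zero (by
      show g.det = 0
      rw [Matrix.det_fin_two, h0, e0, e1]; ring)
    show σ t = t
    refine mul_left_cancel₀ hg00 ?_
    linear_combination e3 - e2 * σ t
  let M : Matrix (Fin 2) (Fin 2) L' := (Matrix.of ![v, T v]).transpose
  have hMdet : IsUnit M.det := isUnit_iff_ne_zero.2 (by rw [Matrix.det_transpose]; exact hv)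
  have hM : IsUnit M := (Matrix.isUnit_iff_isUnit_det M).2 hMdet
  have hMi : IsUnit M⁻¹ := Matrix.isUnit_nonsing_inv_iff.2 hM
  have key : g * M.map σ = M * nMat c := by
    have hgg : ∀ i l, g i 0 * σ (g 0 l) + g i 1 * σ (g 1 l) = c * if i = l then 1 else 0 := fun i l => by
      have := congrFun₂ hc₀' i l
      simpa [Matrix.mul_apply, Fin.sum_univ_two, Matrix.one_apply] using this
    have h00 : g 0 0 * σ (g 0 0) + g 0 1 * σ (g 1 0) = c := by simpa using hgg 0 0
    have h01 : g 0 0 * σ (g 0 1) + g 0 1 * σ (g 1 1) = 0 := by simpa using hgg 0 1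
    have h10 : g 1 0 * σ (g 0 0) + g 1 1 * σ (g 1 0) = 0 := by simpa using hgg 1 0
    have h11 : g 1 0 * σ (g 0 1) + g 1 1 * σ (g 1 1) = c := by simpa using hgg 1 1
    clear hgg
    ext i j
    fin_cases i <;> fin_cases j <;>
      simp [M, T, Matrix.mul_apply, Matrix.mulVec, dotProduct, Fin.sum_univ_two, map_add, map_mul, hσσ]
    · linear_combination v 0 * h00 + v 1 * h01
    · linear_combination v 0 * h10 + v 1 * h11
  let ℓ := linMap (RingHom.id L') M hM
  haveI : IsIso ℓ := isIso_linMap (RingEquiv.refl L') hM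
  have hinv : inv ℓ = linMap (RingHom.id L') M⁻¹ hMi := by
    refine IsIso.inv_eq_of_hom_inv_id ?_
    rw [linMap_comp, ← linMap_id]
    exact linMap_congr (RingHom.id_comp _) (by simp [Matrix.mul_nonsing_inv _ hMdet])
  let e' : BrSev.Splitting f L' 1 := ⟨e.iso ≪≫ asIso ℓ, by
    rw [Iso.trans_hom, asIso_hom, Category.assoc, linMap_toSpec, CommRingCat.ofHom_id, Spec.map_id,
      Category.comp_id, e.comm]⟩
  have hu : ∀ τ : L' ≃ₐ[L] L', IsUnit (if τ = 1 then 1 else nMat c : Matrix (Fin 2) (Fin 2) L') := fun τ => by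
    split
    · exact isUnit_one
    · exact isUnit_nMat hc
  refine ⟨e', ⟨fun τ => if τ = 1 then 1 else nMat c, hu, fun τ => ?_⟩, c', fun h0 => hc (by rw [← hc', h0, map_zero]),
    if_pos rfl, (if_neg hσ).trans (congrArg nMat hc'.symm)⟩
  show (inv ℓ ≫ e.iso.inv) ≫ bcAct f τ ≫ e.iso.hom ≫ ℓ = _
  rcases hall τ with rfl | rfl
  · rw [hbc1, Category.id_comp, Category.assoc, Iso.inv_hom_id_assoc, IsIso.inv_hom_id, ← linMap_id]
    exact linMap_congr (by ext; rfl) (if_pos rfl).symm
  · have := F.act τ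
    rw [hinv, Category.assoc, ← Category.assoc (bcAct f τ), ← Category.assoc e.iso.inv, this]
    refine ((congrArg (linMap _ _ hMi ≫ ·) (linMap_comp _ _ _ _)).trans (linMap_comp _ _ _ _)).trans (linMap_congr (by ext; rfl) ?_)
    rw [if_neg hσ]
    simp only [RingHom.coe_id, Matrix.map_id]
    exact (congrArg (M⁻¹ * ·) key).trans (Matrix.nonsing_inv_mul_cancel_left _ _ hMdet)

end Groth.Agent.EssDim44
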