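import Groth.Agent.EssDim44.Genus0Quad
import Mathlib.RingTheory.AlgebraicIndependent.TranscendenceBasis
import Mathlib.RingTheory.AlgebraicIndependent.AlgebraicClosure
import Mathlib.FieldTheory.IntermediateField.Adjoin.Algebra
import Mathlib.FieldTheory.Galois.Basic

/-!
The essential dimension of curves of genus zero is at most two.
-/

set_option autoImplicit false
set_option linter.style.haveILetI false
set_option backward.isDefEq.respectTransparency false
set_option backward.isDefEq.respectTransparency.types false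
universe u

open CategoryTheory CategoryTheory.Limits AlgebraicGeometry Cardinal

noncomputable section

namespace Groth.Agent.EssDim44

open Csa25

theorem trdeg_adjoin_pair_le {k L : Type u} [Field k] [Field L] [Algebra k L] (a c : L) :
    Cardinal.toENat (Algebra.trdeg k (IntermediateField.adjoin k ({a, c} : Set L))) ≤ 2 := by
  classical
  let K := IntermediateField.adjoin k ({a, c} : Set L)
  let s : Set K := {⟨a, IntermediateField.subset_adjoin _ _ (by simp)⟩, ⟨c, IntermediateField.subset_adjoin _ _ (by simp)⟩}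
  have hs : IntermediateField.adjoin k s = ⊤ := by
    apply IntermediateField.lift_injective
    rw [IntermediateField.lift_top, IntermediateField.lift_adjoin]
    simp [s, K, Set.image_insert_eq]
  haveI : Algebra.IsAlgebraic (Algebra.adjoin k s) K := by
    rw [← IntermediateField.isAlgebraic_adjoin_iff_top, hs]
    exact ⟨fun x => isAlgebraic_algebraMap (A := K) (R := (⊤ : IntermediateField k K)) ⟨x, trivial⟩⟩
  refine (toENat.monotone' (Algebra.IsAlgebraic.trdeg_le_cardinalMk (R := k) (s := s))).trans ?_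
  have h2 : #s ≤ 2 := (mk_insert_le).trans (by rw [mk_singleton]; norm_num)
  simpa using toENat.monotone' h2

/-- A form of the line is a curve of genus zero. -/
theorem isCurveOfGenus_of_splitting {K K' : Type u} [Field K] [Field K'] [Algebra K K'] [Algebra.IsAlgebraic K K']
    {Y : Scheme.{u}} {s : Y ⟶ Spec (CommRingCat.of K)} (e : BrSev.Splitting s K' 1) :
    ModFun.IsCurveOfGenus 0 s := by
  haveI := BS25.geometricallyIntegral_of_splitting e
  refine ⟨BS25.smooth_of_splitting e, BS25.isProper_of_splitting e, inferInstance, fun Ω _ _ t X i q h => ?_⟩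
  letI : Algebra K Ω := (Spec.preimage t).hom.toAlgebra
  have ht : Spec.map (CommRingCat.ofHom (algebraMap K Ω)) = t := Spec.map_preimage t
  rw [← ht] at h
  obtain ⟨eΩ⟩ := BS25.exists_splitting_of_algHom e (IsAlgClosed.lift : K' →ₐ[K] Ω)
  let ε : X ≅ CohB1.ProjSpace 1 Ω := h.isoPullback ≪≫ eΩ.iso
  letI : X.Over (Spec (CommRingCat.of Ω)) := ⟨q⟩
  refine ⟨?_, ?_⟩
  · rw [show topologicalKrullDim X = topologicalKrullDim (CohB1.ProjSpace 1 Ω) from
      ε.hom.homeomorph.isHomeomorph.topologicalKrullDim_eq, S10829.result Ω 1]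
    rfl
  · haveI := Crv77.subsingleton_h1_of_iso_projLine (k := Ω) ε
    exact Module.finrank_zero_of_subsingleton

variable {k : Type u} [Field k]

theorem edAt_le_of_square [FibCat.IsFibGrpd (CurvSt.Mgn (Spec (CommRingCat.of k)) 0 0).p] {L : Type u} [Field L]
    [Algebra k L] {C : Scheme.{u}} {f : C ⟶ (SGA7.pt (K := k) L).left}
    {σ : Fin 0 → ((SGA7.pt (K := k) L).left ⟶ C)} (hσ : ∀ i, σ i ≫ f = 𝟙 _)
    (hA : CurvSt.IsSmoothPtdFam f σ 0) (K : IntermediateField k L) {Y : Scheme.{u}}
    {s : Y ⟶ Spec (CommRingCat.of K)} (hY : ModFun.IsCurveOfGenus 0 s) {h : C ⟶ Y}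
    (hpb : IsPullback h f s (Spec.map (CommRingCat.ofHom (algebraMap K L)))) :
    EssDim.edAt (Gerb.isoClPsh (CurvSt.Mgn (Spec (CommRingCat.of k)) 0 0))
        (Quot.mk (Gerb.IsoRel _ (SGA7.pt (K := k) L)) ⟨⟨⟨SGA7.pt (K := k) L, C, f, σ, hσ⟩, hA⟩, rfl⟩) ≤
      toENat (Algebra.trdeg k K) := by
  let x₀ : StkCnt.pts (CurvSt.Mgn (Spec (CommRingCat.of k)) 0 0) K :=
    ⟨⟨⟨SGA7.pt (K := k) K, Y, s, Fin.elim0, fun i => i.elim0⟩, hY, fun i => i.elim0⟩, rfl⟩
  let φ : (⟨SGA7.pt (K := k) L, C, f, σ, hσ⟩ : CurvSt.PtFamObj _ 0) ⟶ x₀.1.obj :=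
    { base := EssDim.resPt K.val
      top := h
      cart := hpb
      w_sect := fun i => i.elim0 }
  exact EssDim.edAt_le_of_descends ((EssDim.descends_isoCl_iff _ ⟨_, rfl⟩ _).2
    ⟨x₀, ObjectProperty.homMk φ, IsHomLift.of_fac' _ _ _ rfl rfl (by
      simp only [eqToHom_refl, Category.id_comp, Category.comp_id]
      rfl)⟩)

theorem exists_small_model [CharZero k] {L : Type u} [Field L] [Algebra k L] {C : Scheme.{u}}
    (f : C ⟶ Spec (CommRingCat.of L)) (hC : ModFun.IsCurveOfGenus 0 f) :
    ∃ (K : IntermediateField k L) (Y : Scheme.{u}) (s : Y ⟶ Spec (CommRingCat.of K)) (h : C ⟶ Y),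
      toENat (Algebra.trdeg k K) ≤ 2 ∧ ModFun.IsCurveOfGenus 0 s ∧
      IsPullback h f s (Spec.map (CommRingCat.ofHom (algebraMap K L))) := by
  classical
  haveI : CharZero L := charZero_of_injective_algebraMap (algebraMap k L).injective
  obtain ⟨L', _, _, hfin, hle, P, hP⟩ := exists_quadratic_point f hC
  have hpos : 0 < Module.finrank L L' := Module.finrank_pos
  obtain h1 | h2 : Module.finrank L L' = 1 ∨ Module.finrank L L' = 2 := by omega
  · have hs : Function.Surjective (algebraMap L L') := fun x => by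
      obtain ⟨r, hr⟩ := (finrank_eq_one_iff_of_nonzero' (1 : L') one_ne_zero).1 h1 x
      exact ⟨r, (Algebra.algebraMap_eq_smul_one r).trans hr⟩
    let θ : L ≃+* L' := RingEquiv.ofBijective (algebraMap L L') ⟨(algebraMap L L').injective, hs⟩
    let σ₁ : Fin 1 → (Spec (CommRingCat.of L) ⟶ C) := fun _ => Spec.map (CommRingCat.ofHom θ.symm.toRingHom) ≫ P
    have hσ₁ : ∀ i, σ₁ i ≫ f = 𝟙 _ := fun i => by
      rw [Category.assoc, hP, ← Spec.map_comp, ← Spec.map_id]
      exact congrArg Spec.map (CommRingCat.hom_ext (RingHom.ext fun x => θ.symm_apply_apply x))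
    obtain ⟨e, he, -⟩ := exists_iso_std (n := 1) (by norm_num) one_pos f σ₁ hσ₁
      ⟨hC, fun i j hij => absurd (Subsingleton.elim i j) hij⟩
    let K : IntermediateField k L := ⊥
    refine ⟨K, CohB1.ProjSpace 1 K, CohB1.ProjSpace.toSpec 1 K,
      e.hom ≫ linMap (n := 1) (algebraMap K L) 1 isUnit_one, ?_, isCurveOfGenus_projLine K,
      (isPullback_linMap_one (n := 1) (R := K) (R' := L)).of_iso e.symm (Iso.refl _) (Iso.refl _) (Iso.refl _)
        (by simp) (by rw [Iso.refl_hom, Category.comp_id, Iso.symm_hom, Iso.eq_inv_comp]; exact he) (by simp) (by simp)⟩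
    haveI : Algebra.IsAlgebraic k K :=
      Algebra.IsAlgebraic.of_injective (IntermediateField.botEquiv k L).toAlgHom
        (IntermediateField.botEquiv k L).injective
    rw [trdeg_eq_zero]
    simp
  · haveI : Algebra.IsQuadraticExtension L L' := ⟨h2⟩
    haveI : IsGalois L L' := inferInstance
    obtain ⟨σ, hσ, hall'⟩ := (Nat.card_eq_two_iff' (1 : L' ≃ₐ[L] L')).1
      ((IsGalois.card_aut_eq_finrank L L').trans h2)
    have hall : ∀ τ : L' ≃ₐ[L] L', τ = 1 ∨ τ = σ := fun τ => or_iff_not_imp_left.2 (hall' τ)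
    obtain ⟨e₀⟩ := exists_splitting_of_point f hC L' P hP
    obtain ⟨e, F, c, hc, hF1, hFσ⟩ := exists_normal_frame e₀ σ hσ hall
    have hss : ∀ x, σ (σ x) = x := fun x => by
      have := (hall (σ * σ)).resolve_right fun h => hσ (mul_left_cancel (h.trans (mul_one σ).symm))
      exact DFunLike.congr_fun this x
    obtain ⟨t, ht⟩ : ∃ t, σ t ≠ t := by
      by_contra hcon
      push Not at hcon
      exact hσ (AlgEquiv.ext hcon)
    let α := t - σ t
    have hα : σ α = -α := by simp [α, hss]
    have hα0 : α ≠ 0 := sub_ne_zero.2 (Ne.symm ht)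
    obtain ⟨a, ha⟩ := (IsGalois.mem_range_algebraMap_iff_fixed (α ^ 2)).2 fun τ : L' ≃ₐ[L] L' => by
      rcases hall τ with rfl | rfl
      · rfl
      · rw [map_pow, hα, neg_sq]
    let K : IntermediateField k L := IntermediateField.adjoin k ({a, c} : Set L)
    let aK : K := ⟨a, IntermediateField.subset_adjoin _ _ (by simp)⟩
    let cK : K := ⟨c, IntermediateField.subset_adjoin _ _ (by simp)⟩
    let K' : IntermediateField K L' := IntermediateField.adjoin K ({α} : Set L')
    have hev : Polynomial.aeval α (Polynomial.X ^ 2 - Polynomial.C aK : Polynomial K) = 0 := by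
      simp [IsScalarTower.algebraMap_apply K L L', ← ha, aK]
    have hint : IsIntegral K α := ⟨_, Polynomial.monic_X_pow_sub_C aK two_ne_zero, hev⟩
    haveI : FiniteDimensional K K' := IntermediateField.adjoin.finiteDimensional hint
    have hdeg : (minpoly K α).natDegree = 2 := by
      have h3 : (minpoly K α).natDegree ≤ 2 := by
        refine (Polynomial.natDegree_le_of_dvd (minpoly.dvd K α hev)
          (Polynomial.monic_X_pow_sub_C aK two_ne_zero).ne_zero).trans ?_
        rw [Polynomial.natDegree_X_pow_sub_C]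
      have h4 := minpoly.natDegree_pos hint
      have h5 : (minpoly K α).natDegree ≠ 1 := fun h5 => by
        obtain ⟨z, hz⟩ := minpoly.natDegree_eq_one_iff.1 h5
        have h6 : σ α = α := by
          rw [← hz, IsScalarTower.algebraMap_apply K L L']
          exact σ.commutes _
        rw [hα] at h6
        exact hα0 (by
          have : (2 : L') * α = 0 := by linear_combination -h6
          haveI : CharZero L' := charZero_of_injective_algebraMap (algebraMap L L').injective
          exact (mul_eq_zero.1 (by assumption : (2 : L') * α = 0)).resolve_left two_ne_zero)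
      omega
    haveI : Algebra.IsQuadraticExtension K K' := ⟨(IntermediateField.adjoin.finrank hint).trans hdeg⟩
    haveI : IsGalois K K' := inferInstance
    let τ₀ : K' ≃ₐ[K] K' := (σ.restrictScalars K).restrictNormal K'
    have hτ₀ : ∀ x, algebraMap K' L' (τ₀ x) = σ (algebraMap K' L' x) :=
      fun x => (σ.restrictScalars K).restrictNormal_commutes K' x
    have hτ1 : τ₀ ≠ 1 := fun h => by
      have h6 := hτ₀ ⟨α, IntermediateField.subset_adjoin _ _ rfl⟩
      rw [h] at h6
      exact ht (by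
        have h7 : σ α = α := h6.symm
        rw [hα] at h7
        haveI : CharZero L' := charZero_of_injective_algebraMap (algebraMap L L').injective
        exact absurd (by linear_combination (-(1 / 2) : L') * h7 : α = 0) hα0)
    obtain ⟨τ₁, hτ₁, hallK'⟩ := (Nat.card_eq_two_iff' (1 : K' ≃ₐ[K] K')).1
      ((IsGalois.card_aut_eq_finrank K K').trans ((IntermediateField.adjoin.finrank hint).trans hdeg))
    obtain rfl : τ₁ = τ₀ := (hallK' τ₀ hτ1).symm
    have hallK : ∀ τ : K' ≃ₐ[K] K', τ = 1 ∨ τ = τ₀ := fun τ => or_iff_not_imp_left.2 (hallK' τ)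
    let cK' : K' := algebraMap K K' cK
    have hcc : algebraMap K' L' cK' = algebraMap L L' c := rfl
    have hcK' : cK' ≠ 0 := fun h0 => hc ((algebraMap L L').injective (by rw [← hcc, h0, map_zero, map_zero]))
    let G : (K' ≃ₐ[K] K') → Matrix (Fin 2) (Fin 2) K' := fun τ => if τ = 1 then 1 else nMat cK'
    have hu : ∀ τ, IsUnit (G τ) := fun τ => by
      simp only [G]
      split
      · exact isUnit_one
      · exact isUnit_nMat hcK'
    have hττ : τ₀ * τ₀ = 1 :=
      (hallK (τ₀ * τ₀)).resolve_right fun h => hτ1 (mul_left_cancel (h.trans (mul_one τ₀).symm))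
    obtain ⟨Y, s, eY, FY, hFY⟩ := exists_form_of_frame G hu (fun σ' τ' => by
      have hm1 : ∀ M : Matrix (Fin 2) (Fin 2) K', M.map (1 : K' ≃ₐ[K] K') = M := fun M => by ext; rfl
      rcases hallK σ' with rfl | rfl <;> rcases hallK τ' with rfl | rfl
      · exact ⟨1, one_ne_zero, by simp [G, hm1]⟩
      · exact ⟨1, one_ne_zero, by simp [G, hm1]⟩
      · exact ⟨1, one_ne_zero, by simp [G]⟩
      · refine ⟨cK', hcK', ?_⟩
        simp only [G, hττ, if_neg hτ1, if_pos]
        rw [show (nMat cK').map τ₀ = nMat cK' from (nMat_map (τ₀ : K' →+* K') cK').trans (congrArg nMat (τ₀.commutes cK))]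
        exact nMat_mul_self cK')
    obtain ⟨h, hh⟩ := exists_isPullback_of_frame (K := K) (K' := K') (L := L) F FY fun σ' => by
      rcases hall σ' with rfl | rfl
      · exact ⟨1, fun x => rfl, by rw [hF1, hFY]; simp [G]⟩
      · exact ⟨τ₀, fun x => (hτ₀ x).symm, by
          rw [hFσ, hFY, show G τ₀ = nMat cK' from if_neg hτ1, nMat_map, hcc]⟩
    exact ⟨K, Y, s, h, trdeg_adjoin_pair_le a c, isCurveOfGenus_of_splitting eY, hh⟩

theorem edSt_genus_zero [CharZero k] [FibCat.IsFibGrpd (CurvSt.Mgn (Spec (CommRingCat.of k)) 0 0).p] :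
    EssDim.edSt (CurvSt.Mgn (Spec (CommRingCat.of k)) 0 0) ≠ ⊥ ∧
      EssDim.edSt (CurvSt.Mgn (Spec (CommRingCat.of k)) 0 0) ≤ ((2 : ℕ) : WithBot ℕ∞) := by
  refine ⟨fun h => ?_, iSup_le fun L => iSup_le fun _ => iSup_le fun _ => iSup_le fun ξ => ?_⟩
  · have h2 := EssDim.edAt_le_ed (P := Gerb.isoClPsh (CurvSt.Mgn (Spec (CommRingCat.of k)) 0 0)) (L := k)
      (Quot.mk _ (stdFam (k := k) (n := 0) (by norm_num) k))
    exact WithBot.coe_ne_bot (le_bot_iff.1 (h2.trans h.le))
  · induction ξ using Quot.ind with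
    | mk x => ?_
    obtain ⟨⟨⟨base, C, f, σ, hσ⟩, hA⟩, hx⟩ := x
    change base = _ at hx
    subst hx
    obtain ⟨K, Y, s, h, hK, hY, hpb⟩ := exists_small_model (k := k) f hA.1
    refine le_trans (WithBot.coe_le_coe.2 ((edAt_le_of_square hσ hA K hY hpb).trans hK)) ?_
    exact le_of_eq (by norm_cast)

end Groth.Agent.EssDim44
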