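import Groth.Agent.EssDim44.Core
import Groth.Agent.AlgSt88.QuotStackFib

/-!
The essential dimension of a quotient stack.
-/

set_option autoImplicit false
set_option maxHeartbeats 1000000
set_option linter.style.haveILetI false
set_option backward.isDefEq.respectTransparency false
set_option backward.isDefEq.respectTransparency.types false
universe u

open CategoryTheory CategoryTheory.Limits MonoidalCategory CartesianMonoidalCategory MonObj GrpObj AlgebraicGeometry AlgSt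
open Groth.Agent.AlgSt88 Groth.Agent.QBal44 Cardinal

noncomputable section

namespace Groth.Agent.EssDim44

variable {k : Type u} [Field k]

theorem edSt_quotSt_le (G X : Over (Spec (CommRingCat.of k))) [GrpObj G] [LocallyOfFiniteType G.hom]
    (aX : AlgGrp.Action G X) [LocallyOfFiniteType X.hom]
    [FibCat.IsFibGrpd (QuotSt Scheme.fppfPrecoverage G aX).p]
    [FibCat.IsFibGrpd (BG Scheme.fppfPrecoverage G).p] :
    EssDim.edSt (QuotSt Scheme.fppfPrecoverage G aX) ≤
      EssDim.edSt (BG Scheme.fppfPrecoverage G) + (topologicalKrullDim (X.left : Type u) : WithBot ℕ∞) := by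
  refine iSup_le fun L => iSup_le fun _ => iSup_le fun _ => iSup_le fun ξ => ?_
  induction ξ using Quot.ind with
  | mk x => ?_
  obtain ⟨⟨base, P, a, π, hc, hloc, φ, hφ⟩, hx⟩ := x
  change base = _ at hx
  subst hx
  let y : StkCnt.pts (BG Scheme.fppfPrecoverage G) L :=
    ⟨{ base := SGA7.pt (K := k) L, P := P, act := a, π := π, cart := hc, loc := hloc, φ := toUnit P,
       eqv := toUnit_unique _ _ }, rfl⟩
  let ξy : EssDim.FPt (Gerb.isoClPsh (BG Scheme.fppfPrecoverage G)) L := Quot.mk _ y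
  haveI : Nonempty {K : IntermediateField k L // EssDim.Descends _ ξy K} := ⟨⟨⊤, EssDim.descends_top _⟩⟩
  obtain ⟨⟨K, hK⟩, hKe⟩ := ENat.exists_eq_iInf
    (fun K : {K : IntermediateField k L // EssDim.Descends _ ξy K} => toENat (Algebra.trdeg k K.1))
  obtain ⟨⟨y₀, hy₀⟩, m, hm⟩ := (EssDim.descends_isoCl_iff (BG Scheme.fppfPrecoverage G) y K).1 hK
  obtain ⟨base₀, P₀, a₀, π₀, hc₀, hloc₀, φ₀, hφ₀⟩ := y₀
  change base₀ = _ at hy₀
  subst hy₀
  haveI := hm
  have hb : m.base = toBaseK K L := by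
    have h := IsHomLift.fac' (BG Scheme.fppfPrecoverage G).p (EssDim.resPt K.val) m
    simp only [eqToHom_refl, Category.id_comp, Category.comp_id] at h
    exact h.trans (congrArg _ (AlgHom.ext fun c => rfl))
  obtain ⟨M, hM, hdesc⟩ := exists_descend_map (aX := aX) hc₀ hloc₀ hc (hb ▸ m.cart) m.eqv φ hφ
  obtain ⟨⟨bM, PM, aM, πM, hcM, hlocM, φ', hφ'⟩, n, hbM, hn⟩ :=
    exists_pullObj (G := G) (a := trivAction G)
      (⟨_, P₀, a₀, π₀, hc₀, hloc₀, φ₀, hφ₀⟩ : QuotObj Scheme.fppfPrecoverage G (trivAction G))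
      (toBaseK (k := k) K M)
  change bM = _ at hbM
  subst hbM
  rw [eqToHom_refl, Category.id_comp] at hn
  obtain ⟨v, ⟨hv₁, hv₂⟩, -⟩ := existsUnique_quot_fac m n (EssDim.resPt (M.val.restrictScalars k))
    (by rw [hn, hb]; exact toBaseK_res K M.val)
  have hv₃ : v.top ≫ n.top = m.top := congrArg (fun t => t.top) hv₂
  obtain ⟨φM, hφM, hwφ⟩ := hdesc PM aM πM n.top v.top hcM (hn ▸ n.cart) (hv₁ ▸ v.cart) v.eqv hv₃
  let xM : StkCnt.pts (QuotSt Scheme.fppfPrecoverage G aX) (M.restrictScalars k) :=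
    ⟨⟨SGA7.pt (K := k) M, PM, aM, πM, hcM, hlocM, φM, hφM⟩, rfl⟩
  let h : (⟨SGA7.pt (K := k) L, P, a, π, hc, hloc, φ, hφ⟩ : QuotObj Scheme.fppfPrecoverage G aX) ⟶
      ⟨SGA7.pt (K := k) M, PM, aM, πM, hcM, hlocM, φM, hφM⟩ :=
    ⟨EssDim.resPt (M.val.restrictScalars k), v.top, v.eqv, hv₁ ▸ v.cart, hwφ⟩
  have hd : EssDim.Descends (Gerb.isoClPsh (QuotSt Scheme.fppfPrecoverage G aX))
      (Quot.mk (Gerb.IsoRel _ (SGA7.pt (K := k) L)) ⟨_, rfl⟩) (M.restrictScalars k) :=
    (EssDim.descends_isoCl_iff _ ⟨_, rfl⟩ _).2 ⟨xM, h, IsHomLift.of_fac' _ _ _ rfl rfl (by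
      simp only [eqToHom_refl, Category.id_comp, Category.comp_id]
      rfl)⟩
  refine le_trans (WithBot.coe_le_coe.2 (EssDim.edAt_le_of_descends hd)) (le_trans hM ?_)
  refine add_le_add ?_ le_rfl
  exact (WithBot.coe_le_coe.2 hKe.le).trans (EssDim.edAt_le_ed ξy)

end Groth.Agent.EssDim44
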