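import Groth.Agent.PnConst7.Point
import Groth.Agent.Csa25.ProjLin
import Mathlib.LinearAlgebra.Matrix.NonsingularInverse

/-!
Rational points of the projective line over a field and their transitivity.
-/

set_option autoImplicit false
set_option linter.style.haveILetI false
set_option backward.isDefEq.respectTransparency false
set_option backward.isDefEq.respectTransparency.types false
universe u

open CategoryTheory CategoryTheory.Limits AlgebraicGeometry HomogeneousLocalization Matrix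
open Groth.Agent.Approx60.ProjCharts

noncomputable section

namespace Groth.Agent.EssDim44

variable (K : Type u) [Field K]

/-- Evaluation of forms at coordinates. -/
abbrev evP (a : Fin 2 → K) : MvPolynomial (Fin 2) K →+* K := MvPolynomial.eval₂Hom (RingHom.id K) a

/-- The point with given coordinates. -/
def mkPt (a : Fin 2 → K) (j : Fin 2) (h : a j ≠ 0) : Spec (CommRingCat.of K) ⟶ CohB1.ProjSpace 1 K :=
  PnConst7.point (evP K a) (MvPolynomial.X j) (X₁ K 1 j).2 one_pos
    (by rw [MvPolynomial.eval₂Hom_X']; exact isUnit_iff_ne_zero.2 h)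

/-- The standard points. -/
def stdPt (i : Fin 2) : Spec (CommRingCat.of K) ⟶ CohB1.ProjSpace 1 K :=
  mkPt K (Pi.single i 1) i (by simp)

theorem mkPt_toSpec (a : Fin 2 → K) (j : Fin 2) (h : a j ≠ 0) :
    mkPt K a j h ≫ CohB1.ProjSpace.toSpec 1 K = 𝟙 _ := by
  rw [mkPt, PnConst7.point_toSpec, ← Spec.map_id]
  refine congrArg Spec.map (CommRingCat.hom_ext (RingHom.ext fun r => ?_))
  exact MvPolynomial.eval₂Hom_C _ _ r

theorem mkPt_indep (a : Fin 2 → K) (i j : Fin 2) (hi : a i ≠ 0) (hj : a j ≠ 0) : mkPt K a i hi = mkPt K a j hj :=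
  PnConst7.point_indep _ _ _ _ _ _ _ _ _

theorem mkPt_smul (a : Fin 2 → K) (c : K) (hc : c ≠ 0) (j : Fin 2) (h : a j ≠ 0) :
    mkPt K (fun i => c * a i) j (mul_ne_zero hc h) = mkPt K a j h := by
  rw [mkPt, mkPt, PnConst7.point, PnConst7.point, awayEval_smul _ c (isUnit_iff_ne_zero.2 hc)]

theorem exists_mkPt (P : Spec (CommRingCat.of K) ⟶ CohB1.ProjSpace 1 K)
    (hP : P ≫ CohB1.ProjSpace.toSpec 1 K = 𝟙 _) :
    ∃ (a : Fin 2 → K) (j : Fin 2) (h : a j ≠ 0), P = mkPt K a j h := by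
  obtain ⟨j, hj⟩ := exists_mem_U K 1 (P.base (IsLocalRing.closedPoint K))
  let aw := Proj.awayι (CohB1.polyGrading 1 K) (MvPolynomial.X j) (X₁ K 1 j).2 one_pos
  have hr : Set.range P.base ⊆ Set.range aw.base := by
    rintro _ ⟨z, rfl⟩
    haveI : Subsingleton ↥(Spec (CommRingCat.of K)) := inferInstanceAs (Subsingleton (PrimeSpectrum K))
    rw [Subsingleton.elim (α := ↥(Spec (CommRingCat.of K))) z (IsLocalRing.closedPoint K)]
    have : P.base (IsLocalRing.closedPoint K) ∈ aw.opensRange := by rw [Proj.opensRange_awayι]; exact hj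
    exact this
  obtain ⟨ψ, hψ⟩ : ∃ ψ, Spec.map ψ = IsOpenImmersion.lift aw P hr := ⟨_, Spec.map_preimage _⟩
  let q := MvPolynomial.eval₂Hom ((fromZeroRingHom (CohB1.polyGrading 1 K) _).comp
    (algebraMap K (CohB1.polyGrading 1 K 0))) (fun i => frac K 1 j (X₁ K 1 i))
  have h1 : q (MvPolynomial.X j) = 1 := by
    rw [MvPolynomial.eval₂Hom_X']
    apply HomogeneousLocalization.val_injective
    show (HomogeneousLocalization.mk _).val = _
    rw [HomogeneousLocalization.val_mk, HomogeneousLocalization.val_one]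
    exact Localization.mk_self (⟨(X₁ K 1 j).1, 1, pow_one _⟩ : Submonoid.powers _)
  have hu : IsUnit (q (MvPolynomial.X j)) := h1 ▸ isUnit_one
  have hu' : IsUnit ((ψ.hom.comp q) (MvPolynomial.X j)) := by rw [RingHom.comp_apply]; exact hu.map ψ.hom
  have hPq : P = PnConst7.point (ψ.hom.comp q) (MvPolynomial.X j) (X₁ K 1 j).2 one_pos hu' := by
    rw [← PnConst7.specMap_point ψ.hom q _ _ _ hu,
      show PnConst7.point q (MvPolynomial.X j) (X₁ K 1 j).2 one_pos hu = aw from PnConst7.point_taut j hu]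
    exact (IsOpenImmersion.lift_fac aw P hr).symm.trans (congrArg (· ≫ aw) hψ.symm)
  let a : Fin 2 → K := fun i => ψ.hom (frac K 1 j (X₁ K 1 i))
  have hc : (ψ.hom.comp q).comp MvPolynomial.C = RingHom.id K := by
    have h2 := (congrArg (· ≫ CohB1.ProjSpace.toSpec 1 K) hPq).symm.trans hP
    simp only [PnConst7.point_toSpec] at h2
    rw [← Spec.map_id] at h2
    exact congrArg CommRingCat.Hom.hom (Spec.map_injective h2)
  have he : ψ.hom.comp q = evP K a := by
    refine MvPolynomial.ringHom_ext (fun r => ?_) fun i => ?_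
    · rw [MvPolynomial.eval₂Hom_C]; exact RingHom.congr_fun hc r
    · rw [RingHom.comp_apply, MvPolynomial.eval₂Hom_X', MvPolynomial.eval₂Hom_X']
  have ha : a j ≠ 0 := by
    have h3 : evP K a (MvPolynomial.X j) = 1 := by rw [← he, RingHom.comp_apply, h1, map_one]
    rw [MvPolynomial.eval₂Hom_X'] at h3
    rw [h3]; exact one_ne_zero
  exact ⟨a, j, ha, hPq.trans (PnConst7.point_congr he _ _ _ _)⟩

theorem mkPt_linMap (g : Matrix (Fin 2) (Fin 2) K) (hg : IsUnit g) (a : Fin 2 → K) (j : Fin 2) (h : a j ≠ 0)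
    (i : Fin 2) (h' : (a ᵥ* g) i ≠ 0) :
    mkPt K a j h ≫ Csa25.linMap (RingHom.id K) g hg = mkPt K (a ᵥ* g) i h' := by
  have e : (evP K a).comp (Csa25.linHom (RingHom.id K) g : MvPolynomial (Fin 2) K →+* MvPolynomial (Fin 2) K) =
      evP K (a ᵥ* g) := by
    refine MvPolynomial.ringHom_ext (fun r => ?_) fun l => ?_
    · show evP K a (Csa25.linHom (RingHom.id K) g (MvPolynomial.C r)) = _
      rw [Csa25.linHom_C]; simp
    · show evP K a (Csa25.linHom (RingHom.id K) g (MvPolynomial.X l)) = _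
      rw [Csa25.linHom_X, MvPolynomial.eval₂Hom_X', Csa25.linForm, map_sum]
      simp [vecMul, dotProduct, mul_comm]
  rw [mkPt, PnConst7.point_linMap (RingHom.id K) g hg _ (MvPolynomial.X i) (X₁ K 1 i).2 one_pos _ _ _ _
    (by rw [e, MvPolynomial.eval₂Hom_X']; exact isUnit_iff_ne_zero.2 h')]
  exact PnConst7.point_congr e _ _ _ _

/-- Two independent points move to the standard ones. -/
theorem exists_aut (a b : Fin 2 → K) (ja jb : Fin 2) (ha : a ja ≠ 0) (hb : b jb ≠ 0)
    (hdet : (Matrix.of ![a, b]).det ≠ 0) :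
    ∃ e : CohB1.ProjSpace 1 K ≅ CohB1.ProjSpace 1 K, e.hom ≫ CohB1.ProjSpace.toSpec 1 K = CohB1.ProjSpace.toSpec 1 K ∧
      mkPt K a ja ha ≫ e.hom = stdPt K 0 ∧ mkPt K b jb hb ≫ e.hom = stdPt K 1 := by
  let M : Matrix (Fin 2) (Fin 2) K := Matrix.of ![a, b]
  have hM : IsUnit M.det := isUnit_iff_ne_zero.2 hdet
  have hg : IsUnit M⁻¹ := Matrix.isUnit_nonsing_inv_iff.2 ((Matrix.isUnit_iff_isUnit_det M).2 hM)
  haveI : IsIso (Csa25.linMap (RingHom.id K) M⁻¹ hg) := Csa25.isIso_linMap (RingEquiv.refl K) hg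
  have hrow : ∀ i, (M i) ᵥ* M⁻¹ = Pi.single i 1 := fun i => by
    have h1 : M i = Pi.single i 1 ᵥ* M := by rw [single_one_vecMul]; rfl
    rw [h1, vecMul_vecMul, Matrix.mul_nonsing_inv _ hM, vecMul_one]
  have key : ∀ (v : Fin 2 → K) (i j : Fin 2) (hv : v j ≠ 0), M i = v →
      mkPt K v j hv ≫ Csa25.linMap (RingHom.id K) M⁻¹ hg = stdPt K i := by
    rintro _ i j hv rfl
    rw [mkPt_linMap K M⁻¹ hg _ j hv i (by rw [hrow]; simp)]
    simp only [stdPt, hrow]
  refine ⟨asIso (Csa25.linMap (RingHom.id K) M⁻¹ hg), ?_, key a 0 ja ha rfl, key b 1 jb hb rfl⟩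
  rw [asIso_hom, Csa25.linMap_toSpec, show CommRingCat.ofHom (RingHom.id K) = 𝟙 _ from rfl, Spec.map_id,
    Category.comp_id]

theorem mkPt_eq_of_det (a b : Fin 2 → K) (ja jb : Fin 2) (ha : a ja ≠ 0) (hb : b jb ≠ 0)
    (hdet : (Matrix.of ![a, b]).det = 0) : mkPt K a ja ha = mkPt K b jb hb := by
  rw [Matrix.det_fin_two] at hdet
  simp only [of_apply, cons_val_zero, cons_val_one] at hdet
  have hab : ∀ i l : Fin 2, b i * a l = b l * a i := by
    intro i l
    fin_cases i <;> fin_cases l <;> simp <;> first | linear_combination hdet | linear_combination -hdet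
  have hprop : ∀ i, b i = b ja / a ja * a i := fun i => by
    rw [div_mul_eq_mul_div, eq_div_iff ha, hab i ja]
  have hc : b ja / a ja ≠ 0 := by
    intro h0
    exact hb (by rw [hprop jb, h0, zero_mul])
  have hbja : b ja ≠ 0 := fun h0 => hc (by rw [h0, zero_div])
  rw [← mkPt_smul K a _ hc ja ha, mkPt_indep K b jb ja hb hbja]
  congr 1
  exact funext fun i => (hprop i).symm

/-- One or two distinct points move to the standard ones. -/
theorem exists_aut_pts {n : ℕ} (hn : n ≤ 2) (hn0 : 0 < n) (P : Fin n → (Spec (CommRingCat.of K) ⟶ CohB1.ProjSpace 1 K))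
    (hP : ∀ i, P i ≫ CohB1.ProjSpace.toSpec 1 K = 𝟙 _) (hinj : Function.Injective P) :
    ∃ e : CohB1.ProjSpace 1 K ≅ CohB1.ProjSpace 1 K, e.hom ≫ CohB1.ProjSpace.toSpec 1 K = CohB1.ProjSpace.toSpec 1 K ∧
      ∀ i, P i ≫ e.hom = stdPt K (i.castLE hn) := by
  choose a j h hab using fun i => exists_mkPt K (P i) (hP i)
  obtain rfl | rfl : n = 1 ∨ n = 2 := by omega
  · obtain ⟨b, jb, hb, hd⟩ : ∃ (b : Fin 2 → K) (jb : Fin 2) (_ : b jb ≠ 0), (Matrix.of ![a 0, b]).det ≠ 0 := by
      have h0 := h 0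
      generalize j 0 = l at h0
      fin_cases l
      · exact ⟨![0, 1], 1, by simp, by simpa [Matrix.det_fin_two] using h0⟩
      · exact ⟨![1, 0], 0, by simp, by simpa [Matrix.det_fin_two] using h0⟩
    obtain ⟨e, he, h0, -⟩ := exists_aut K (a 0) b (j 0) jb (h 0) hb hd
    refine ⟨e, he, fun i => ?_⟩
    rw [show i = 0 from Subsingleton.elim _ _, hab 0, h0]
    rfl
  · have hd : (Matrix.of ![a 0, a 1]).det ≠ 0 := fun h0 =>
      absurd (hinj (a₁ := 0) (a₂ := 1) ((hab 0).trans
        ((mkPt_eq_of_det K _ _ _ _ (h 0) (h 1) h0).trans (hab 1).symm))) (by decide)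
    obtain ⟨e, he, h0, h1⟩ := exists_aut K (a 0) (a 1) (j 0) (j 1) (h 0) (h 1) hd
    refine ⟨e, he, fun i => ?_⟩
    fin_cases i
    · exact (congrArg (· ≫ e.hom) (hab 0)).trans h0
    · exact (congrArg (· ≫ e.hom) (hab 1)).trans h1

theorem stdPt_linMap {L : Type u} [Field L] [Algebra K L] (i : Fin 2) :
    stdPt L i ≫ Csa25.linMap (n := 1) (algebraMap K L) 1 isUnit_one =
      Spec.map (CommRingCat.ofHom (algebraMap K L)) ≫ stdPt K i := by
  have e : (evP L (Pi.single i 1)).comp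
      (Csa25.linHom (n := 1) (algebraMap K L) 1 : MvPolynomial (Fin 2) K →+* MvPolynomial (Fin 2) L) =
      (algebraMap K L).comp (evP K (Pi.single i 1)) := by
    refine MvPolynomial.ringHom_ext (fun r => ?_) fun l => ?_
    · show evP L _ (Csa25.linHom (n := 1) (algebraMap K L) 1 (MvPolynomial.C r)) = _
      rw [Csa25.linHom_C]; simp
    · show evP L _ (Csa25.linHom (n := 1) (algebraMap K L) 1 (MvPolynomial.X l)) = _
      rw [Csa25.linHom_X, Csa25.linForm_one]
      simp [Pi.single_apply, apply_ite]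
  rw [stdPt, stdPt, mkPt, mkPt, PnConst7.specMap_point,
    PnConst7.point_linMap (algebraMap K L) 1 isUnit_one _ (MvPolynomial.X i) (X₁ K 1 i).2 one_pos _ _ _ _
      (by rw [e]; simp)]
  exact PnConst7.point_congr e _ _ _ _

end Groth.Agent.EssDim44
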