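import Groth.Agent.GalTw97.Form
import Groth.Agent.Csa25.SBDescent
import Groth.Agent.EGA73.VeryAmplePnAmple

/-!
The form of projective space with a prescribed frame.
-/

set_option autoImplicit false
set_option linter.style.haveILetI false
set_option backward.isDefEq.respectTransparency false
set_option backward.isDefEq.respectTransparency.types false
universe u

open CategoryTheory CategoryTheory.Limits AlgebraicGeometry

noncomputable section

namespace Groth.Agent.EssDim44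

open Csa25

/-- A projective Galois cocycle is the frame of some form of projective space. -/
theorem exists_form_of_frame {k K : Type u} [Field k] [Field K] [Algebra k K] [FiniteDimensional k K] [IsGalois k K]
    {n : ℕ} (G : (K ≃ₐ[k] K) → Matrix (Fin (n + 1)) (Fin (n + 1)) K) (hu : ∀ σ, IsUnit (G σ))
    (hc : ∀ σ τ : K ≃ₐ[k] K, ∃ c : K, c ≠ 0 ∧ G σ * (G τ).map σ = c • G (σ * τ)) :
    ∃ (Y : Scheme.{u}) (s : Y ⟶ Spec (CommRingCat.of k)) (e : BrSev.Splitting s K n) (F : Frame e), F.mat = G := by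
  let W := CohB1.ProjSpace n K
  let str := Spec.map (CommRingCat.ofHom (algebraMap k K))
  let act : (K ≃ₐ[k] K) → (W ⟶ W) := fun σ => linMap (σ : K →+* K) (G σ) (hu σ)
  have hsnd : ∀ σ, act σ ≫ CohB1.ProjSpace.toSpec n K =
      CohB1.ProjSpace.toSpec n K ≫ Spec.map (CommRingCat.ofHom (σ : K →+* K)) := fun σ => linMap_toSpec _ _ _
  have hstr : ∀ σ : K ≃ₐ[k] K, Spec.map (CommRingCat.ofHom (σ : K →+* K)) ≫ str = str := fun σ =>
    GalTw.specMap_comp_pt σ
  have hmul : ∀ σ τ, act σ ≫ act τ = act (σ * τ) := fun σ τ => by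
    obtain ⟨c, hc0, hc'⟩ := hc σ τ
    show linMap _ _ _ ≫ linMap _ _ _ = _
    rw [linMap_comp]
    exact (linMap_congr (hg' := isUnit_smul_matrix hc0 (hu (σ * τ))) (by ext; rfl) hc').trans (linMap_smul _ (hu (σ * τ)) hc0)
  have hone : act 1 = 𝟙 W := by
    haveI : IsIso (act 1) := isIso_linMap ((1 : K ≃ₐ[k] K) : K ≃+* K) (hu 1)
    rw [← cancel_epi (act 1), Category.comp_id, hmul, mul_one]
  let ρ : (K ≃ₐ[k] K) →* Aut W :=
  { toFun := fun g => ⟨act g⁻¹, act g, by rw [hmul, inv_mul_cancel, hone], by rw [hmul, mul_inv_cancel, hone]⟩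
    map_one' := Iso.ext ((congrArg act inv_one).trans hone)
    map_mul' := fun g h => Iso.ext ((congrArg act (mul_inv_rev g h)).trans (hmul h⁻¹ g⁻¹).symm) }
  obtain ⟨Y, π, hπ⟩ := Quot84.exists_quot ρ fun x => by
    obtain ⟨U, -, hU, -, hUa⟩ := Amp73.exists_affine_genSet_of_finite (EGA73.VeryAmplePnAmple.isAmple_twistProjSpace K n)
      (Set.finite_range fun g => (ρ g).hom x) (U := ⊤) (fun _ _ => trivial)
    exact ⟨U, hUa, fun g => hU ⟨g, rfl⟩⟩
  obtain ⟨s, hs, -⟩ := Quot84.existsUnique_desc hπ (CohB1.ProjSpace.toSpec n K ≫ str) fun g => by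
    show act g⁻¹ ≫ _ = _
    rw [reassoc_of% hsnd, hstr]
  let ψ : W ⟶ BrSev.bc s K := pullback.lift π (CohB1.ProjSpace.toSpec n K) hs
  let Y' : Over (Spec (CommRingCat.of k)) := Over.mk s
  have hgal : ∀ σ : K ≃ₐ[k] K, GalTw.galMap K σ Y' = bcAct s σ := fun σ => by
    apply pullback.hom_ext
    · exact (GalTw.galMap_fst K σ Y').trans (bcAct_proj s σ).symm
    · exact (GalTw.galMap_snd K σ Y').trans (bcAct_bcTo s σ).symm
  have he : ∀ σ, act σ ≫ ψ = ψ ≫ bcAct s σ := fun σ => by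
    apply pullback.hom_ext
    · rw [Category.assoc, Category.assoc, bcAct_proj, pullback.lift_fst]
      have h := hπ.inv σ⁻¹
      change act σ⁻¹⁻¹ ≫ π = π at h
      rwa [inv_inv] at h
    · rw [Category.assoc, Category.assoc, bcAct_bcTo, pullback.lift_snd, pullback.lift_snd_assoc]
      exact hsnd σ
  haveI : IsIso ψ := GalTw97.isIso_of_equivariant hπ
    (fun Ω _ _ ξ g h => GalTw97.specMap_free _ (hsnd g⁻¹) ξ h) (GalTw97.isQuot_galRho Y') (GalTw97.isFree_galRho Y') ψ
    (pullback.lift_fst _ _ _) (fun g => (he g⁻¹).trans (congrArg (ψ ≫ ·) (hgal g⁻¹).symm))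
  let e : BrSev.Splitting s K n := ⟨(asIso ψ).symm, by
    rw [Iso.symm_hom, asIso_inv, IsIso.inv_comp_eq]
    exact (pullback.lift_snd _ _ _).symm⟩
  refine ⟨Y, s, e, ⟨G, hu, fun σ => ?_⟩, rfl⟩
  show ψ ≫ bcAct s σ ≫ inv ψ = _
  rw [← Category.assoc, ← he, Category.assoc, IsIso.hom_inv_id, Category.comp_id]

end Groth.Agent.EssDim44
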